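import Cfsg.Agent.SC6.LemA
import Cfsg.Agent.S1644
import Cfsg.Agent.H1.Frattini

set_option autoImplicit false

namespace Cfsg.Agent.SC6

open Cfsg Cfsg.Agent.H49 Subgroup

/-- the Klein four group fixing the last point -/
def V5 : Subgroup (alternatingGroup (Fin 5)) where
  carrier := {g | g.1 4 = 4 ∧ g * g = 1}
  one_mem' := ⟨rfl, one_mul _⟩
  mul_mem' := fun {a b} => by
    simp only [Set.mem_setOf_eq]; revert a b; decide +kernel
  inv_mem' := fun {a} => by
    simp only [Set.mem_setOf_eq]; revert a; decide +kernel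

theorem mem_V5 {g : alternatingGroup (Fin 5)} : g ∈ V5 ↔ g.1 4 = 4 ∧ g * g = 1 := Iff.rfl

theorem card_V5 : Nat.card V5 = 4 := by
  change Nat.card {g : alternatingGroup (Fin 5) // g.1 4 = 4 ∧ g * g = 1} = 4
  rw [Nat.card_eq_fintype_card]
  decide +kernel

theorem card_A5 : Nat.card (alternatingGroup (Fin 5)) = 60 := by
  rw [Nat.card_eq_fintype_card]
  decide +kernel

theorem exists_c5 : ∃ c : alternatingGroup (Fin 5), c ≠ 1 ∧ c ^ 3 = 1 ∧
    ∀ g, g ∈ V5 → c * g * c⁻¹ ∈ V5 := by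
  refine ⟨⟨Equiv.swap 0 1 * Equiv.swap 1 2, Equiv.Perm.mem_alternatingGroup.2 (by decide)⟩,
    by decide, by decide, ?_⟩
  simp only [mem_V5]
  decide +kernel

theorem exists_sign2 {G : Type*} [Group G] {L : Subgroup G} (h : L.index = 2) :
    ∃ χ : G →* Multiplicative (ZMod 2), ∀ g, χ g = 1 ↔ g ∈ L := by
  classical
  refine ⟨MonoidHom.mk' (fun g => if g ∈ L then 1 else Multiplicative.ofAdd 1) fun a b => ?_,
    fun g => ?_⟩
  · simp only [mul_mem_iff_of_index_two h]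
    by_cases ha : a ∈ L <;> by_cases hb : b ∈ L <;> simp [ha, hb]
    rfl
  · by_cases hg : g ∈ L <;> simp [hg]

/-- an element of order three in the preimage of a cyclic group of order three -/
theorem exists_lift3 {H K : Type*} [Group H] [Finite H] [Group K] (φ : H →* K)
    (hker : IsPGroup 2 φ.ker) {g : H} (h1 : φ g ≠ 1) (h3 : φ g ^ 3 = 1) :
    ∃ n : ℕ, orderOf (g ^ 4 ^ n) = 3 ∧ φ (g ^ 4 ^ n) = φ g := by
  obtain ⟨n, hn⟩ := hker ⟨g ^ 3, by rw [MonoidHom.mem_ker, map_pow, h3]⟩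
  have h4 : (g ^ 3) ^ 2 ^ n = 1 := congrArg Subtype.val hn
  have h5 : φ (g ^ 4 ^ n) = φ g := by
    rw [map_pow]
    have : 4 ^ n % 3 = 1 := by rw [Nat.pow_mod]; simp
    rw [← Nat.div_add_mod (4 ^ n) 3, pow_add, pow_mul, h3, one_pow, one_mul, this, pow_one]
  refine ⟨n, orderOf_eq_prime (hp := ⟨Nat.prime_three⟩) ?_ fun e => h1 (by rw [← h5, e, map_one]),
    h5⟩
  rw [← pow_mul, show (4 : ℕ) = 2 * 2 from rfl, mul_pow, mul_comm, ← mul_assoc, pow_mul, pow_mul,
    h4, one_pow]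

/-- If `C(z)/O₂(C(z))` is `A₅` then the group is `J₁`. -/
theorem Hyp.a5_case {G : Type*} [Group G] [Finite G] [IsSimpleGroup G] (h : Hyp G) {z : G}
    (hz : orderOf z = 2) {H : Subgroup G} (hH : H = 𝒞[z]) (φ : H →* alternatingGroup (Fin 5))
    (hφ : Function.Surjective φ) (hker : IsPGroup 2 φ.ker) : Cfsg.Spor.IsoJ1 G := by
  have hc : ∀ g : H, (g : G) * z = z * g := fun g => mem_cent1.1 (hH.le g.2)
  have hzH : z ∈ H := hH ▸ mem_cent1.2 rfl
  have hcz : ∀ g : H, g * ⟨z, hzH⟩ = ⟨z, hzH⟩ * g := fun g => Subtype.ext (hc g)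
  have hφz : φ ⟨z, hzH⟩ = 1 := by
    have : φ ⟨z, hzH⟩ ∈ center (alternatingGroup (Fin 5)) := mem_center_iff.2 fun g => by
      obtain ⟨g, rfl⟩ := hφ g
      rw [← map_mul, hcz, map_mul]
    rcases (inferInstance : (center (alternatingGroup (Fin 5))).Normal).eq_bot_or_eq_top with e | e
    · exact mem_bot.1 (e ▸ this)
    · exfalso
      have h1 : ∀ a b : alternatingGroup (Fin 5), a * b = b * a := fun a b =>
        mem_center_iff.1 (e ▸ mem_top b) a
      revert h1; decide +kernel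
  set T := V5.comap φ with hT
  have hT2 : IsPGroup 2 T := IsPGroup.comap_of_ker_isPGroup
    (fun g => ⟨1, Subtype.ext (by simpa [pow_two] using g.2.2)⟩) φ hker
  have hTi : T.index = 15 := by
    have := V5.card_mul_index
    rw [card_V5, card_A5] at this
    rw [hT, index_comap_of_surjective _ hφ]; omega
  obtain ⟨S₀, -, hS₀⟩ := h.central hz
  have hHi : ¬ 2 ∣ H.index := fun e => S₀.not_dvd_index (e.trans (index_dvd_of_le (hH ▸ hS₀)))
  let S : Sylow 2 G := (hT2.map H.subtype).toSylow (by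
    rw [index_map_subtype, hTi]
    exact fun e => ((Nat.Prime.dvd_mul Nat.prime_two).1 e).elim (by norm_num) hHi)
  have hS : (S : Subgroup G) = T.map H.subtype := rfl
  have hkT : φ.ker ≤ T := ker_le_comap _ _
  have hmem : ∀ g : H, g ∈ T → (g : G) ∈ (S : Subgroup G) := fun g hg => ⟨g, hg, rfl⟩
  obtain ⟨c, c1, c3, cV⟩ := exists_c5
  obtain ⟨g, rfl⟩ := hφ c
  obtain ⟨n, y3, yφ⟩ := exists_lift3 φ hker c1 c3
  set y := g ^ 4 ^ n
  have hexp := h.lemA S hz (hmem ⟨z, hzH⟩ (hkT hφz)) (hH ▸ map_subtype_le T) (x := y)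
    (by rw [orderOf_coe, y3]) (mem_normalizer_fintype (by
      rintro _ ⟨s, hs, rfl⟩
      refine hmem (y * s * y⁻¹) ?_
      rw [hT, mem_comap, map_mul, map_mul, map_inv, yφ]
      exact cV _ hs)) (hc y).symm
  have hexp' : ∀ s ∈ T, s * s = 1 := fun s hs => Subtype.ext (hexp _ (hmem s hs))
  have hab : ∀ s ∈ T, ∀ t ∈ T, s * t = t * s := fun s hs t ht => by
    have h1 := hexp' _ (mul_mem hs ht)
    rw [← inv_eq_of_mul_eq_one_right h1, mul_inv_rev, inv_eq_of_mul_eq_one_right (hexp' s hs),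
      inv_eq_of_mul_eq_one_right (hexp' t ht)]
  have hC : (centralizer (φ.ker : Set H)).map φ = ⊤ := by
    refine (Normal.map inferInstance φ hφ).eq_bot_or_eq_top.resolve_left fun e => ?_
    have h1 : V5 ≤ ⊥ := fun v hv => by
      obtain ⟨s, rfl⟩ := hφ v
      exact e ▸ ⟨s, fun k hk => hab k (hkT hk) s hv, rfl⟩
    have h2 := card_le_of_le h1
    rw [card_V5, card_bot] at h2
    omega
  obtain ⟨u, hu, uφ⟩ : φ g ∈ (centralizer (φ.ker : Set H)).map φ := hC ▸ mem_top _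
  obtain ⟨m, u3, -⟩ := exists_lift3 φ hker (uφ ▸ c1) (uφ ▸ c3)
  have hk : ∀ k : H, φ k = 1 → k = 1 ∨ k = ⟨z, hzH⟩ := fun k hk => by
    refine (h.two (g := (k : G)) (y := ((u ^ 4 ^ m : H) : G)) (n := 1) hz
      (by rw [orderOf_coe, u3]) (hc _).symm (hc k) (congrArg Subtype.val (pow_mem hu _ k hk)) ?_).imp Subtype.ext Subtype.ext
    rw [pow_one, pow_two]
    exact hexp _ (hmem k (hkT hk))
  have z1 : (⟨z, hzH⟩ : H) ≠ 1 := fun e => ne_of hz (congrArg Subtype.val e)
  have hck : Nat.card φ.ker = 2 := by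
    rw [show φ.ker = zpowers ⟨z, hzH⟩ from le_antisymm (fun k hk' => by
      rcases hk k hk' with rfl | rfl
      exacts [one_mem _, mem_zpowers _]) (zpowers_le_of_mem hφz), Nat.card_zpowers, orderOf_mk, hz]
  have hcH : Nat.card H = 120 := by
    rw [← φ.ker.card_mul_index, index_ker, MonoidHom.range_eq_top.2 hφ, card_top, card_A5, hck]
  have hcT : Nat.card T = 8 := by
    have := T.card_mul_index
    rw [hTi, hcH] at this
    omega
  obtain ⟨L, hL, -, hzL⟩ := H1.exists_coatom_not_mem (G := T) Nat.prime_two (N := ⊥)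
    (by
      rw [_root_.commutator_def, commutator_le]
      exact fun a _ b _ => commutatorElement_eq_one_iff_mul_comm.2 (Subtype.ext (hab _ a.2 _ b.2)))
    (fun a => Subtype.ext ((pow_two (a : H)).trans (hexp' _ a.2)))
    (x := ⟨⟨z, hzH⟩, hkT hφz⟩) fun e => z1 (congrArg Subtype.val e)
  obtain ⟨χ, hχ⟩ := exists_sign2 (H1.index_eq_of_isCoatom_of_pgroup hT2 hL)
  have hτ : MonoidHom.transfer χ ⟨z, hzH⟩ ≠ 1 := by
    rw [MonoidHom.transfer_eq_pow χ _ fun k g₀ _ => by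
      rw [mul_assoc, ← (Commute.pow_right (hcz g₀) k).eq, inv_mul_cancel_left], Ne, hχ]
    intro e
    refine hzL ?_
    convert e using 2
    rw [hTi, show 15 = 2 * 7 + 1 from rfl, pow_succ, pow_mul, pow_two, hexp' _ (hkT hφz), one_pow,
      one_mul]
  have hinj : Function.Injective ((MonoidHom.transfer χ).prod φ) := by
    rw [injective_iff_map_eq_one]
    intro k hk'
    refine (hk k (congrArg Prod.snd hk')).resolve_right fun e => hτ ?_
    exact e ▸ congrArg Prod.fst hk'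
  have hb := (Nat.bijective_iff_injective_and_card _).2 ⟨hinj, by
    rw [hcH, Nat.card_prod, card_A5, Nat.card_eq_fintype_card]; rfl⟩
  subst hH
  refine S1644.result S ⟨⟨fun a b => Subtype.ext ?_⟩⟩ ?_ z hz (MulEquiv.ofBijective _ hb)
  · obtain ⟨_, s, hs, rfl⟩ := a
    obtain ⟨_, t, ht, rfl⟩ := b
    exact (congrArg Subtype.val (hab s hs t ht) :)
  · exact (card_map_of_injective (subtype_injective _)).trans hcT

end Cfsg.Agent.SC6
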