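import Cfsg.Agent.SC6.Defs
import Cfsg.Agent.S0809

set_option autoImplicit false

namespace Cfsg.Agent.SC6

open Cfsg Cfsg.Agent.H49 Subgroup

theorem psl27_conj (x y : Matrix.ProjectiveSpecialLinearGroup (Fin 2) (ZMod 7))
    (hx : orderOf x = 2) (hy : orderOf y = 2) : IsConj x y := by
  let j : Matrix.SpecialLinearGroup (Fin 2) (ZMod 7) :=
    ⟨!![0, -1; 1, 0], by simp [Matrix.det_fin_two]⟩
  have hj : orderOf j = 2 ^ (1 + 1) := orderOf_eq_prime_pow (by decide) (by decide)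
  haveI : Fact (Nat.Prime 7) := ⟨by decide⟩
  exact (S0809.result (ZMod.card 7) (by decide) (zpowers j)
    (by rw [Nat.card_zpowers, hj]; rfl)).2.2.2 x y hx hy

theorem psl27_four : ∃ r : Matrix.ProjectiveSpecialLinearGroup (Fin 2) (ZMod 7),
    orderOf (r * r) = 2 := by
  let j : Matrix.SpecialLinearGroup (Fin 2) (ZMod 7) :=
    ⟨!![0, -1; 1, 3], by simp [Matrix.det_fin_two]⟩
  refine ⟨QuotientGroup.mk j, orderOf_eq_prime ?_ ?_⟩
  · rw [← QuotientGroup.mk_mul, ← QuotientGroup.mk_pow, QuotientGroup.eq_one_iff,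
      show (j * j) ^ 2 = -1 by decide]
    exact mem_center_iff.2 fun g => by simp
  · rw [← QuotientGroup.mk_mul, Ne, QuotientGroup.eq_one_iff]
    intro h
    exact absurd (mem_center_iff.1 h ⟨!![1, 1; 0, 1], by simp [Matrix.det_fin_two]⟩) (by decide)

/-- `C(z)/⟨z⟩` is not `PSL(2, 7)`. -/
theorem Hyp.not_l27 {G : Type*} [Group G] [Finite G] (h : Hyp G) {z : G} (hz : orderOf z = 2)
    {H : Subgroup G} (hH : H = 𝒞[z])
    (φ : H →* Matrix.ProjectiveSpecialLinearGroup (Fin 2) (ZMod 7)) (hφ : Function.Surjective φ)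
    (hker : ∀ g : H, φ g = 1 ↔ (g : G) ∈ zpowers z) : False := by
  subst hH
  obtain ⟨w, hw, hwz, hc⟩ : ∃ w : G, orderOf w = 2 ∧ w ≠ z ∧ w * z = z * w := by
    obtain ⟨a, b, ha, hb, hab, hc⟩ := h.four
    obtain ⟨c, rfl⟩ := isConj_iff.1 (h.one a z ha hz)
    refine ⟨c * b * c⁻¹, ((MulAut.conj c).orderOf_eq b).trans hb, fun e => hab ?_, ?_⟩
    · exact ((MulAut.conj c).injective e).symm
    · have := congrArg (MulAut.conj c) hc
      simpa only [map_mul, MulAut.conj_apply] using this.symm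
  let w' : (𝒞[z] : Subgroup G) := ⟨w, mem_cent1.2 hc⟩
  have hw' : orderOf (φ w') = 2 := by
    refine ord2 (fun e => ?_) ?_
    · rcases (mem_zp hz).1 ((hker w').1 e) with e | e
      exacts [ne_of hw e, hwz e]
    · rw [← map_mul, show w' * w' = 1 from Subtype.ext (sq_of hw), map_one]
  have key : ∀ g : (𝒞[z] : Subgroup G), orderOf (φ g) = 2 → (g : G) * g = 1 := by
    intro g hg
    obtain ⟨k, hk⟩ := isConj_iff.1 (psl27_conj _ _ hw' hg)
    obtain ⟨k, rfl⟩ := hφ k
    have h1 : φ ((k * w' * k⁻¹)⁻¹ * g) = 1 := by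
      rw [map_mul, map_inv, map_mul, map_mul, map_inv, hk, inv_mul_cancel]
    have h2 : ((k * w' * k⁻¹ : (𝒞[z] : Subgroup G)) : G) * (k * w' * k⁻¹ : (𝒞[z] : Subgroup G))
        = 1 := by
      change (k : G) * w * (k : G)⁻¹ * ((k : G) * w * (k : G)⁻¹) = 1
      rw [conj_mul, sq_of hw]
      simp
    have h3 := mem_cent1.1 (k * w' * k⁻¹).2
    generalize k * w' * k⁻¹ = u at h1 h2 h3
    rcases (mem_zp hz).1 ((hker _).1 h1) with e | e
    · have : (g : G) = u := (inv_mul_eq_one.1 e).symm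
      rw [this, h2]
    · have : (g : G) = u * z := inv_mul_eq_iff_eq_mul.1 e
      rw [this, mul_assoc, ← mul_assoc z, ← h3, mul_assoc, sq_of hz, mul_one, h2]
  obtain ⟨r, hr⟩ := psl27_four
  obtain ⟨r, rfl⟩ := hφ r
  rw [← map_mul] at hr
  have h1 : orderOf ((r : G) * r) = 2 := ord2 (fun e => ne_of hr (by
    rw [show r * r = 1 from Subtype.ext e, map_one])) (key _ hr)
  obtain ⟨c, hc⟩ := isConj_iff.1 (h.one _ z h1 hz)
  rw [← conj_mul] at hc
  generalize c * (r : G) * c⁻¹ = x at hc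
  let x' : (𝒞[z] : Subgroup G) := ⟨x, mem_cent1.2 (by rw [← hc, mul_assoc])⟩
  have h2 : orderOf (φ x') = 2 := by
    refine ord2 (fun e => ?_) ?_
    · rcases (mem_zp hz).1 ((hker x').1 e) with e | e
      · change x = 1 at e
        rw [e, one_mul] at hc
        exact ne_of hz hc.symm
      · change x = z at e
        rw [e, sq_of hz] at hc
        exact ne_of hz hc.symm
    · rw [← map_mul]
      exact (hker _).2 (by change x * x ∈ _; rw [hc]; exact mem_zpowers z)
  exact ne_of hz (hc.symm.trans (key x' h2))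

end Cfsg.Agent.SC6
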