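import Cfsg.Agent.SC6.B2
import Cfsg.Agent.S0144
import Cfsg.Agent.S0204

/-!
Setting up the hypotheses and the local structure in the solvable case.
-/

set_option autoImplicit false
set_option linter.unusedSectionVars false

namespace Cfsg.Agent.SC6

open Cfsg Cfsg.Agent.H49 Cfsg.Agent.NO6 Subgroup

universe u

variable {G : Type u} [Group G] [Finite G] {x y z v t : G} {E R N : Subgroup G}

theorem hyp_of [IsSimpleGroup G] (hG : ¬ IsMulCommutative G)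
    (h1 : ∀ x y : G, orderOf x = 2 → orderOf y = 2 → IsConj x y) (ht : orderOf t = 6)
    (hC : 𝒞[t] = zpowers t) : Hyp G := by
  have oz : orderOf (t ^ 3) = 2 := by rw [orderOf_pow_of_dvd (by norm_num) (by norm_num [ht]), ht]
  have ox : orderOf (t ^ 2) = 3 := by rw [orderOf_pow_of_dvd (by norm_num) (by norm_num [ht]), ht]
  have t6 : t ^ 6 = 1 := orderOf_dvd_iff_pow_eq_one.1 ht.dvd
  have c0 : 𝒞[t ^ 3] ⊓ 𝒞[t ^ 2] ≤ zpowers t := fun g hg => hC ▸ mem_cent1_comm.1 (by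
    have := mul_mem (mem_cent1_comm.1 hg.1) (inv_mem (mem_cent1_comm.1 hg.2))
    rwa [show t ^ 3 * (t ^ 2)⁻¹ = t by group] at this)
  have xz : t ^ 2 ∈ 𝒞[t ^ 3] := mem_cent1.2 (by group)
  have p3 : IsPi {3} (zpowers (t ^ 2)) := isPi_of_card_eq_pow (k := 1) pr3
    (by rw [Nat.card_zpowers, ox, pow_one])
  have syl : IsSylowOf 3 (zpowers (t ^ 2)) 𝒞[t ^ 3] := by
    have k : ∀ P ≤ zpowers t, IsPi {3} P → P ≤ zpowers (t ^ 2) := fun P hP hp =>
      (((sylowOf_iff pr3).2 ⟨zpowers_le.2 (pow_mem (mem_zpowers t) 2),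
        (isPi_singleton_iff pr3).1 p3, by
          have := card_mul_relIndex (zpowers_le.2 (pow_mem (mem_zpowers t) 2))
          rw [Nat.card_zpowers, Nat.card_zpowers, ox, ht] at this
          omega⟩ : IsSylowOf 3 _ (zpowers t))).le_of_normal
        (norm_of_cent (cent_zpowers (t ^ 2) ▸ zpowers_le.2 (mem_cent1.2 (by group)))) hP hp
    refine sylowOf_of_max p3 (zpowers_le.2 xz) fun P k1 k2 k3 => ?_
    obtain ⟨a, ha, a1⟩ := ne_bot_iff_exists.1 (center_ne_bot_of_nilpotent k3.nilpotent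
      fun e => by simpa [ox] using card_le_of_le (e ▸ k1 : zpowers (t ^ 2) ≤ ⊥))
    have k4 := k (zpowers a) (zpowers_le.2 (c0 ⟨k2 ha.1, mem_cent1.2
      (ha.2 _ (k1 (mem_zpowers _))).symm⟩)) (k3.of_le (zpowers_le.2 ha.1))
    have k5 := (eq_bot_or_eq_of_prime_card (by rw [Nat.card_zpowers, ox]; exact pr3) k4).resolve_left
      (by simpa)
    refine k P (fun g hg => c0 ⟨k2 hg, ?_⟩) k3
    rw [← cent_zpowers, ← k5, cent_zpowers]
    exact le_cent1_iff.2 ha.2 hg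
  refine ⟨h1, fun v y g hv hy c c1 c2 => ?_, ?_, fun v hv => ?_⟩
  · obtain ⟨a, rfl⟩ := isConj_iff.1 (h1 _ v oz hv)
    obtain ⟨b, hb, k⟩ := sylowOf_Jsub (X := zpowers y) (syl.cj a)
      (zpowers_le.2 (cj_cent1 a _ ▸ mem_cent1.2 c.symm))
      (isPi_of_card_eq_pow (k := 1) pr3 (by rw [Nat.card_zpowers, hy, pow_one]))
    rw [cj_cent1] at hb
    have e1 : b * a * t ^ 3 * (b * a)⁻¹ = a * t ^ 3 * a⁻¹ := by
      calc _ = b * (a * t ^ 3 * a⁻¹) * b⁻¹ := by group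
        _ = _ := conj_eq_iff.2 hb
    rw [cj_cj] at k
    have e2 : zpowers y = cj (b * a) (zpowers (t ^ 2)) := eq_of_le_of_card_eq k
      (by rw [card_cj, Nat.card_zpowers, Nat.card_zpowers, hy, ox])
    have e3 : g ∈ cj (b * a) (zpowers t) := cj_mono _ c0 (by
      rw [cj_inf, cj_cent1, e1, ← cent_zpowers (t ^ 2), cj_centralizer, ← e2, cent_zpowers]
      exact ⟨mem_cent1.2 c1, mem_cent1.2 c2⟩)
    have e4 : zpowers (a * t ^ 3 * a⁻¹ * y) = cj (b * a) (zpowers t) := eq_of_le_of_card_eq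
      (zpowers_le.2 (mul_mem (e1 ▸ conj_mem_cj.2 (pow_mem (mem_zpowers t) 3))
        (cj_mono _ (zpowers_le.2 (pow_mem (mem_zpowers t) 2)) (k (mem_zpowers y)))))
      (by rw [card_cj, Nat.card_zpowers, Nat.card_zpowers, ht,
        Commute.orderOf_mul_eq_mul_orderOf_of_coprime c (by rw [hv, hy]; norm_num), hv, hy])
    exact e4 ▸ e3
  · obtain ⟨V, hV⟩ := S0204.result (G := G) fun k => hG IsCyclic.isMulCommutative
    have : Nontrivial V := Finite.one_lt_card_iff_nontrivial.1 (by rw [hV.card_four]; norm_num)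
    obtain ⟨a, ha⟩ := exists_ne (1 : V)
    obtain ⟨b, hb1, hb2⟩ : ∃ b : V, b ≠ 1 ∧ b ≠ a := by
      by_contra! k
      have : Nat.card V ≤ Nat.card (Fin 2) := Nat.card_le_card_of_surjective (![1, a])
        fun b => by
          by_cases e : b = 1
          exacts [⟨0, e.symm⟩, ⟨1, (k b e).symm⟩]
      rw [hV.card_four] at this
      simp at this
    have sq : ∀ c : V, (c : G) * c = 1 := fun c => congrArg Subtype.val (IsKleinFour.mul_self c)
    exact ⟨a, b, ord2 (by simpa using ha) (sq a), ord2 (by simpa using hb1) (sq b),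
      fun e => hb2 (Subtype.ext e).symm, by
        have := inv_eq_of_sq (sq (a * b))
        rw [coe_mul, mul_inv_rev, inv_eq_of_sq (sq a), inv_eq_of_sq (sq b)] at this
        exact this.symm⟩
  · obtain ⟨a, rfl⟩ := isConj_iff.1 (h1 _ v oz hv)
    exact ⟨a * t ^ 2 * a⁻¹, ((MulAut.conj a).orderOf_eq _).trans ox, by group⟩

theorem af_zp (hv : orderOf v = 2) (hy : orderOf y = 3) (c : v * y = y * v) :
    AF v y (zpowers v) :=
  ⟨zp_two hv, hv, hy, mem_zpowers v, zpowers_le.2 (self_mem_cent1 v),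
    (norm_zp hv).symm ▸ mem_cent1.2 c.symm, c, fun _ ha _ => (mem_zp hv).1 ha⟩

theorem relIndex_six {φ : ↥𝒩(E) →* Equiv.Perm (Fin 3)} (hφ : Function.Surjective φ)
    (k : ∀ g, φ g = 1 ↔ (g : G) ∈ N) : N.relIndex 𝒩(E) = 6 := by
  rw [relIndex, show N.subgroupOf 𝒩(E) = φ.ker from Subgroup.ext fun g => (k g).symm,
    index_ker, MonoidHom.range_eq_top.2 hφ, card_top, card_s3]

theorem Nil.solvable (n : Nil E R N) (h : N.relIndex 𝒩(E) = 3 ∨ N.relIndex 𝒩(E) = 6) :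
    Group.IsSolvable 𝒩(E) := solvable_of_quo n.solv n.normN (by
  rcases h with h | h
  · exact S0144.result 2 3 0 1 pr2 pr3 (by rw [card_quo n.normN, h]; rfl)
  · exact S0144.result 2 3 1 1 pr2 pr3 (by rw [card_quo n.normN, h]; rfl))

theorem Nil.exists_bl (h : Hyp G) (hv : orderOf v = 2) (n : Nil (zpowers v) R N)
    {φ : ↥𝒩(zpowers v) →* Equiv.Perm (Fin 3)} (hφ : Function.Surjective φ)
    (k : ∀ g, φ g = 1 ↔ (g : G) ∈ N) (S : Sylow 2 G) (hS : (S : Subgroup G) ≤ 𝒞[v]) :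
    ∃ x s, BL S v x s R := by
  obtain ⟨y, hy, c⟩ := h.three v hv
  have h6 := relIndex_six hφ k
  have yL := (af_zp hv hy c).norm
  have SL : (S : Subgroup G) ≤ 𝒩(zpowers v) := (norm_zp hv).symm ▸ hS
  have syl := (sylowOf_top pr2 S).sub SL le_top
  have RS := syl.normal_le (n.syl.le.trans n.le3) n.normR n.syl.pi
  have yN : y ∉ N := fun e => n.n3 (hy ▸ orderOf_dvd_natCard N e)
  have s3 : IsSylowOf 3 (zpowers y) 𝒩(zpowers v) := (sylowOf_iff pr3).2 ⟨zpowers_le.2 yL,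
    IsPGroup.of_card (n := 1) (by rw [Nat.card_zpowers, hy, pow_one]), by
      have e1 := card_mul_relIndex (zpowers_le.2 yL)
      have e2 := card_mul_relIndex n.le3
      have e3 := n.n3
      rw [Nat.card_zpowers, hy] at e1
      rw [h6] at e2
      omega⟩
  have y1 : φ ⟨y, yL⟩ ≠ 1 := fun e => yN ((k _).1 e)
  have y3 : φ ⟨y, yL⟩ ^ 3 = 1 := by
    rw [← map_pow, show (⟨y, yL⟩ : ↥𝒩(zpowers v)) ^ 3 = 1 from Subtype.ext (cube_of hy), map_one]
  let ψ := Equiv.Perm.sign.comp φ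
  obtain ⟨s0, hs0⟩ := hφ (Equiv.swap 0 1)
  obtain ⟨_, ⟨m, hm, rfl⟩, w, ⟨wL, wn⟩, e⟩ := (frattini_arg (map_subtype_le ψ.ker) (norm_map_subtype _)
    (s3.sub (zpowers_le.2 ⟨⟨y, yL⟩, (by decide +kernel : ∀ a : Equiv.Perm (Fin 3), a ^ 3 = 1 →
      Equiv.Perm.sign a = 1) _ y3, rfl⟩) (map_subtype_le _))).2.2 s0 s0.2
  have w1 : Equiv.Perm.sign (φ ⟨w, wL⟩) = -1 := by
    have e' : s0 = m * ⟨w, wL⟩ := Subtype.ext e
    have : ψ s0 = -1 := by simp [ψ, hs0]
    rwa [e', map_mul, hm, one_mul] at this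
  have w2 : w * y * w⁻¹ = y⁻¹ := by
    have k1 : w * y * w⁻¹ * y ∈ N := (k (⟨w, wL⟩ * ⟨y, yL⟩ * ⟨w, wL⟩⁻¹ * ⟨y, yL⟩)).1 (by
      rw [map_mul, map_mul, map_mul, map_inv]
      exact (by decide +kernel : ∀ a b : Equiv.Perm (Fin 3), Equiv.Perm.sign a = -1 → b ^ 3 = 1 →
        a * b * a⁻¹ * b = 1) _ _ w1 y3)
    have k2 := (inf_eq_bot_or_le_of_prime_card (K := zpowers y)
      (by rw [Nat.card_zpowers, hy]; exact pr3) N).resolve_right fun e => yN (e (mem_zpowers y))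
    exact eq_inv_of_mul_eq_one_left (mem_bot.1 (k2 ▸ (⟨mul_mem
      (conj_mem_of_norm le_rfl wn (mem_zpowers y)) (mem_zpowers y), k1⟩ : _ ∈ zpowers y ⊓ N)))
  obtain ⟨i, j, hj, ej⟩ := Nat.exists_eq_pow_mul_and_not_dvd (orderOf_pos w).ne' 2 (by norm_num)
  have w3 : w ^ j * y * (w ^ j)⁻¹ = y⁻¹ := by
    have k1 : w ^ 2 ∈ 𝒞[y] := conj_eq_iff.1 (by
      calc _ = w * (w * y * w⁻¹) * w⁻¹ := by rw [sq]; group
        _ = w * y⁻¹ * w⁻¹ := by rw [w2]
        _ = (w * y * w⁻¹)⁻¹ := by group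
        _ = y := by rw [w2, inv_inv])
    rw [show j = 1 + 2 * (j / 2) by omega, pow_add, pow_mul, pow_one]
    calc _ = w * ((w ^ 2) ^ (j / 2) * y * ((w ^ 2) ^ (j / 2))⁻¹) * w⁻¹ := by group
      _ = _ := by rw [conj_eq_iff.2 (pow_mem k1 _), w2]
  obtain ⟨g, hg, gs⟩ := sylowOf_subJ (X := zpowers (w ^ j)) syl (zpowers_le.2 (pow_mem wL j))
    (isPi_of_card_eq_pow (k := i) pr2 (by
      rw [Nat.card_zpowers, orderOf_pow_of_dvd (by omega) (ej ▸ dvd_mul_left _ _), ej,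
        Nat.mul_div_cancel _ (by omega)]))
  have ox : orderOf (g * y * g⁻¹) = 3 := ((MulAut.conj g).orderOf_eq y).trans hy
  have xL := mul_mem (mul_mem hg yL) (inv_mem hg)
  have inv : g * w ^ j * g⁻¹ * (g * y * g⁻¹) * (g * w ^ j * g⁻¹)⁻¹ = (g * y * g⁻¹)⁻¹ := by
    calc _ = g * (w ^ j * y * (w ^ j)⁻¹) * g⁻¹ := by group
      _ = _ := by rw [w3]; group
  have sS := gs (conj_mem_cj.2 (mem_zpowers _))
  have af := h.af n.two hv ox (n.le1 (mem_zpowers v)) (RS.trans hS) (n.normR xL)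
    (mem_cent1.1 (norm_zp hv ▸ xL)).symm
  have s0 : g * w ^ j * g⁻¹ ∉ R := fun e => not_mem_two n.two ox (by
    have := mul_mem e (af.conj_mem (inv_mem e))
    generalize g * w ^ j * g⁻¹ = s at *
    generalize g * y * g⁻¹ = x at *
    rwa [show s * (x * s⁻¹ * x⁻¹) = s * x * s⁻¹ * x⁻¹ by group, inv, ← mul_inv_rev, af.xx,
      inv_inv] at this)
  refine ⟨_, _, af, S.isPGroup', RS, ?_, hS, sS, s0, inv⟩
  have e1 := relIndex_mul_relIndex R N _ n.syl.le n.le3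
  have e2 := ((sylowOf_iff pr2).1 n.syl).2.2
  rw [← relIndex_mul_relIndex R S _ RS SL, h6] at e1
  obtain ⟨a, ha⟩ := IsPGroup.iff_card.1 S.isPGroup'
  obtain ⟨b, -, e⟩ := (Nat.dvd_prime_pow pr2).1 (ha ▸ relIndex_dvd_card R S)
  rcases b with _ | _ | b
  · exact (s0 (relIndex_eq_one.1 e sS)).elim
  · exact e
  · rw [e, pow_succ, pow_succ, mul_assoc, mul_assoc, mul_comm (2 ^ b), mul_assoc, mul_assoc] at e1
    omega

/-- In characteristic two the nilpotent normal subgroup is a 2-group. -/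
theorem Nil.eq (hv : orderOf v = 2) (n : Nil (zpowers v) R N)
    {φ : ↥𝒩(zpowers v) →* Equiv.Perm (Fin 3)} (hφ : Function.Surjective φ)
    (k : ∀ g, φ g = 1 ↔ (g : G) ∈ N) (hc : IsOfCharacteristicTwo ↥𝒩(zpowers v)) : R = N := by
  have h1 : pCore 2 ↥𝒩(zpowers v) ≤ φ.ker := by
    rw [← Subgroup.map_eq_bot_iff]
    by_contra e
    have hn : (pCore 2 ↥𝒩(zpowers v)).Normal := by rw [pCore_eq_piCore pr2]; infer_instance
    exact absurd (isPi_of_isPGroup pr2 (H70.pCore_isPGroup.map φ) 3 pr3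
      (three_dvd_of_normal_s3 _ (hn.map φ hφ) e)) (by decide)
  have h2 : piCoreOf {2} 𝒩(zpowers v) ≤ R := n.syl.normal_le (by
    rw [← pCore_map_subtype pr2]
    rintro _ ⟨g, hg, rfl⟩
    exact (k g).1 (h1 hg)) (n.le3.trans (le_norm_piCoreOf _ _)) (piCoreOf_pi _ _)
  rw [← pCore_map_subtype pr2] at h2
  refine n.syl.eq_self fun p hp hd => by_contra fun e => ?_
  obtain ⟨g, hg, og⟩ := exists_orderOf_eq_of_dvd_card hp hd
  have odd : Odd (orderOf g) := og ▸ hp.odd_of_ne_two e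
  have h3 : (⟨g, n.le3 hg⟩ : ↥𝒩(zpowers v)) ∈ pCore 2 _ := hc fun r hr => Subtype.ext (by
    have hr' := h2 ⟨r, hr, rfl⟩
    have k1 : g ^ 2 ∈ 𝒞[(r : G)] := conj_eq_iff.1 (by
      rcases (mem_zp hv).1 (n.comm g hg odd r hr') with e | e
      · rw [mul_inv_eq_one] at e
        calc _ = g * (g * r * g⁻¹) * g⁻¹ := by rw [sq]; group
          _ = _ := by rw [e, e]
      · rw [mul_inv_eq_iff_eq_mul] at e
        calc _ = g * (g * r * g⁻¹) * g⁻¹ := by rw [sq]; group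
          _ = g * (v * r) * g⁻¹ := by rw [e]
          _ = g * v * g⁻¹ * (g * r * g⁻¹) := by group
          _ = _ := by rw [e, conj_eq_iff.2 (norm_zp hv ▸ n.le3 hg), ← mul_assoc, sq_of hv, one_mul])
    obtain ⟨j, hj⟩ := odd
    have k2 : g = (g ^ 2) ^ (j + 1) := by
      rw [← pow_mul, show 2 * (j + 1) = 2 * j + 1 + 1 by ring, ← hj, pow_succ, pow_orderOf_eq_one,
        one_mul]
    have k3 : g ∈ 𝒞[(r : G)] := k2 ▸ pow_mem k1 _
    exact (mem_cent1.1 k3).symm)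
  have h4 : g ∈ R := h2 ⟨_, h3, rfl⟩
  exact e (n.syl.pi p hp (og ▸ orderOf_dvd_natCard R h4))

end Cfsg.Agent.SC6
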