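import Cfsg.Agent.SC6.AF

/-!
Normal four-groups and the element of order three acting on them.
-/

set_option autoImplicit false
set_option linter.unusedSectionVars false

namespace Cfsg.Agent.SC6

open Cfsg Cfsg.Agent.H49 Cfsg.Agent.NO6 Subgroup

universe u

variable {G : Type u} [Group G] [Finite G] {x y z a b g u : G} {Q K S B D : Subgroup G}

theorem cj_cases (hz : orderOf z = 2) (h : g * a * g⁻¹ * a⁻¹ ∈ zpowers z) :
    g * a * g⁻¹ = a ∨ g * a * g⁻¹ = z * a :=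
  ((mem_zp hz).1 h).imp mul_inv_eq_one.1 mul_inv_eq_iff_eq_mul.1

theorem conj_eq_iff : g * a * g⁻¹ = a ↔ g ∈ 𝒞[a] := by rw [mem_cent1, mul_inv_eq_iff_eq_mul]

namespace AF

theorem v_comm (h : AF z x Q) (hu : u ∈ Q) (uu : u * u = 1) :
    u * (x * u * x⁻¹) = (x * u * x⁻¹) * u := by
  have h1 := h.prod hu
  have h2 : x⁻¹ * u * x * (x⁻¹ * u * x) = 1 := by simpa using conj_sq uu x⁻¹
  have h3 : z * (x⁻¹ * u * x) = x⁻¹ * u * x * z := (mem_cent1.1 (h.cen (h.conj_mem' hu))).symm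
  have h4 := conj_sq uu x
  generalize x * u * x⁻¹ = v at *
  generalize x⁻¹ * u * x = w at *
  have h5 : u * v * (u * v) = 1 := by
    rcases (mem_zp h.oz).1 h1 with e | e
    · rw [eq_inv_of_mul_eq_one_left e, ← mul_inv_rev, h2, inv_one]
    · rw [eq_mul_inv_of_mul_eq e, inv_eq_of_sq h2]
      calc z * w * (z * w) = z * (w * z) * w := by group
        _ = (z * z) * (w * w) := by rw [← h3]; group
        _ = 1 := by rw [h.zz, h2, mul_one]
  rw [← inv_eq_of_sq h5, mul_inv_rev, inv_eq_of_sq uu, inv_eq_of_sq h4]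

theorem conj_comm (h : AF z x Q) (ha : ∀ r ∈ Q, r * a * r⁻¹ * a⁻¹ ∈ zpowers z) :
    ∀ r ∈ Q, r * (x * a * x⁻¹) * r⁻¹ * (x * a * x⁻¹)⁻¹ ∈ zpowers z := fun r hr => by
  have := conj_mem_of_norm le_rfl h.xN (ha _ (h.conj_mem' hr))
  rwa [show x * (x⁻¹ * r * x * a * (x⁻¹ * r * x)⁻¹ * a⁻¹) * x⁻¹ =
    r * (x * a * x⁻¹) * r⁻¹ * (x * a * x⁻¹)⁻¹ by group] at this

/-- Either there is a normal four-group, or `Q` is tiny. -/
theorem exists_u (h : AF z x Q) (hS : IsPGroup 2 S) (hQS : Q ≤ S) (hn : S ≤ 𝒩(Q))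
    (hc : S ≤ 𝒞[z]) (hs : ∀ s ∈ S, ∃ q ∈ Q, s * x * s⁻¹ = q * x ∨ s * x * s⁻¹ = q * x⁻¹) :
    (∃ u ∈ Q, u * u = 1 ∧ u ∉ zpowers z ∧ ∀ s ∈ S, s * u * s⁻¹ * u⁻¹ ∈ zpowers z) ∨
      (Nat.card Q ≤ 8 ∧ ∀ w ∈ Q, w * w = 1 → w ∈ zpowers z) := by
  by_cases h0 : Q ≤ zpowers z
  · refine Or.inr ⟨(card_le_of_le h0).trans ?_, fun w hw _ => h0 hw⟩
    rw [Nat.card_zpowers, h.oz]; norm_num
  rw [or_iff_not_imp_left]
  intro hno
  have hN : S ≤ 𝒩(zpowers z) := (norm_zp h.oz).symm ▸ hc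
  obtain ⟨a, ha, a0, aa, ac⟩ := exists_A h.oz hS hc hQS hn h0
  replace aa : a * a = z := ((mem_zp h.oz).1 aa).resolve_left fun e => hno ⟨a, ha, e, a0, ac⟩
  have xz : x * z * x⁻¹ = z := by rw [← h.zx]; group
  have hb := h.conj_mem ha
  have hc' := h.conj_mem' ha
  have bc := h.conj_comm fun r hr => ac r (hQS hr)
  have cc := h.inv.conj_comm fun r hr => ac r (hQS hr)
  rw [inv_inv] at cc
  have bb : x * a * x⁻¹ * (x * a * x⁻¹) = z := by rw [← xz, ← aa]; group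
  have c2 : x⁻¹ * a * x * (x⁻¹ * a * x) = z := by
    calc _ = x⁻¹ * (a * a) * x := by group
      _ = z := by rw [aa, mul_assoc, h.zx]; group
  have pr := h.prod ha
  have sb : ∀ s ∈ S, ∃ q ∈ Q, ∃ e ∈ zpowers z, s * (x * a * x⁻¹) * s⁻¹ = e * (q * (x * a * x⁻¹) * q⁻¹) ∨
      s * (x * a * x⁻¹) * s⁻¹ = e * (q * (x⁻¹ * a * x) * q⁻¹) := fun s hs' => by
    obtain ⟨q, hq, e⟩ := hs s hs'
    have ht : s * x * s⁻¹ ∈ 𝒩(zpowers z) := mul_mem (mul_mem (hN hs') h.xN) (inv_mem (hN hs'))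
    refine ⟨q, hq, _, conj_mem_of_norm le_rfl ht (ac s hs'), e.imp (fun e => ?_) fun e => ?_⟩
    · calc _ = s * x * s⁻¹ * (s * a * s⁻¹ * a⁻¹) * (s * x * s⁻¹)⁻¹ *
          (s * x * s⁻¹ * a * (s * x * s⁻¹)⁻¹) := by group
        _ = _ := by congr 1; rw [e]; group
    · calc _ = s * x * s⁻¹ * (s * a * s⁻¹ * a⁻¹) * (s * x * s⁻¹)⁻¹ *
          (s * x * s⁻¹ * a * (s * x * s⁻¹)⁻¹) := by group
        _ = _ := by congr 1; rw [e]; group
  generalize x * a * x⁻¹ = b at *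
  generalize x⁻¹ * a * x = c at *
  have zc : ∀ d ∈ Q, zpowers z ≤ 𝒞[d] := fun d hd => zpowers_le.2 (mem_cent1_comm.1 (h.cen hd))
  have sq1 : ∀ e ∈ zpowers z, ∀ t ∈ Q, e * t * (e * t) = t * t := fun e he t ht => by
    have e2 : e * e = 1 := by
      rcases (mem_zp h.oz).1 he with rfl | rfl
      exacts [mul_one _, h.zz]
    calc _ = e * (t * e) * t := by group
      _ = (e * e) * (t * t) := by rw [← mem_cent1.1 (zc t ht he)]; group
      _ = _ := by rw [e2, one_mul]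
  have ab2 : a * b * (a * b) = z := by
    rw [show a * b = a * b * c * c⁻¹ by group, sq1 _ pr _ (inv_mem hc'), ← mul_inv_rev, c2,
      inv_eq_of_sq h.zz]
  have nc : a ∉ 𝒞[b] := fun k => ne_of h.oz (by
    calc z = a * (b * a) * b := by rw [← ab2]; group
      _ = (a * a) * (b * b) := by rw [← mem_cent1.1 k]; group
      _ = 1 := by rw [aa, bb, h.zz])
  have hB : Q ⊓ 𝒞[a] ⊓ 𝒞[b] ≤ zpowers z := by
    by_contra hB
    obtain ⟨d, ⟨⟨hd, da⟩, db⟩, d0, dd, dc⟩ := exists_A (B := Q ⊓ 𝒞[a] ⊓ 𝒞[b]) h.oz hS hc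
      (inf_le_left.trans (inf_le_left.trans hQS)) (le_norm_iff.2 fun s hs' d hd => by
        have ha' : a ∈ 𝒞[d] := mem_cent1_comm.1 hd.1.2
        have hb' : b ∈ 𝒞[d] := mem_cent1_comm.1 hd.2
        have hc2 : c ∈ 𝒞[d] := by
          simpa [mul_assoc] using mul_mem (inv_mem (mul_mem ha' hb')) (zc d hd.1.1 pr)
        have key : ∀ t, s⁻¹ * t * s⁻¹⁻¹ ∈ 𝒞[d] → s * d * s⁻¹ ∈ 𝒞[t] := fun t ht => mem_cent1.2 (by
          calc _ = s * (d * (s⁻¹ * t * s⁻¹⁻¹)) * s⁻¹ := by group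
            _ = _ := by rw [← mem_cent1.1 ht]; group)
        refine ⟨⟨conj_mem_of_norm hn hs' hd.1.1, key a ?_⟩, key b ?_⟩
        · simpa using mul_mem (zc d hd.1.1 (ac _ (inv_mem hs'))) ha'
        · obtain ⟨q, hq, e, he, e1 | e1⟩ := sb _ (inv_mem hs')
          · rw [e1]
            exact mul_mem (zc d hd.1.1 he) (by simpa using mul_mem (zc d hd.1.1 (bc q hq)) hb')
          · rw [e1]
            exact mul_mem (zc d hd.1.1 he) (by simpa using mul_mem (zc d hd.1.1 (cc q hq)) hc2)) hB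
    rcases (mem_zp h.oz).1 dd with e | e
    · exact hno ⟨d, hd, e, d0, dc⟩
    refine hno ⟨d * a, mul_mem hd ha, ?_, fun k => nc ?_, fun s hs' => ?_⟩
    · calc _ = d * (a * d) * a := by group
        _ = (d * d) * (a * a) := by rw [← mem_cent1.1 da]; group
        _ = 1 := by rw [e, aa, h.zz]
    · simpa using (𝒞[b]).mul_mem ((𝒞[b]).inv_mem db) (zc b hb k)
    · have := mul_mem (dc s hs') (conj_mem_of_norm le_rfl (h.leN hd) (ac s hs'))
      rwa [show s * d * s⁻¹ * d⁻¹ * (d * (s * a * s⁻¹ * a⁻¹) * d⁻¹) =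
        s * (d * a) * s⁻¹ * (d * a)⁻¹ by group] at this
  have ba : b * a * b⁻¹ = z * a := (cj_cases h.oz (ac b (hQS hb))).resolve_left fun e =>
    nc (mem_cent1_comm.1 (conj_eq_iff.1 e))
  have ab : a * b * a⁻¹ = z * b := (cj_cases h.oz (bc a ha)).resolve_left fun e => nc (conj_eq_iff.1 e)
  have all : ∀ w ∈ Q, ∃ t ∈ ({1, a, b, a * b} : Set G), w * t ∈ zpowers z := fun w hw => by
    have wz : w * z * w⁻¹ = z := conj_eq_iff.2 (h.cen hw)
    have az : a * z * a⁻¹ = z := conj_eq_iff.2 (h.cen ha)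
    have k : ∀ t, w * t * w⁻¹ = z * t → w * (z * t) * w⁻¹ = t := fun t e => by
      calc _ = w * z * w⁻¹ * (w * t * w⁻¹) := by group
        _ = _ := by rw [wz, e, ← mul_assoc, h.zz, one_mul]
    rcases cj_cases h.oz (ac w (hQS hw)) with e1 | e1 <;>
      rcases cj_cases h.oz (bc w hw) with e2 | e2
    · exact ⟨1, by simp, hB ⟨⟨by simpa, conj_eq_iff.1 (by simpa)⟩, conj_eq_iff.1 (by simpa)⟩⟩
    · refine ⟨a, by simp, hB ⟨⟨mul_mem hw ha, conj_eq_iff.1 ?_⟩, conj_eq_iff.1 ?_⟩⟩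
      · calc _ = w * a * w⁻¹ := by group
          _ = _ := e1
      · calc _ = w * (a * b * a⁻¹) * w⁻¹ := by group
          _ = _ := by rw [ab, k b e2]
    · refine ⟨b, by simp, hB ⟨⟨mul_mem hw hb, conj_eq_iff.1 ?_⟩, conj_eq_iff.1 ?_⟩⟩
      · calc _ = w * (b * a * b⁻¹) * w⁻¹ := by group
          _ = _ := by rw [ba, k a e1]
      · calc _ = w * b * w⁻¹ := by group
          _ = _ := e2
    · refine ⟨a * b, by simp, hB ⟨⟨mul_mem hw (mul_mem ha hb), conj_eq_iff.1 ?_⟩, conj_eq_iff.1 ?_⟩⟩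
      · calc _ = w * (a * (b * a * b⁻¹) * a⁻¹) * w⁻¹ := by group
          _ = w * (a * z * a⁻¹ * a) * w⁻¹ := by rw [ba]; group
          _ = _ := by rw [az, k a e1]
      · calc _ = w * (a * b * a⁻¹) * w⁻¹ := by group
          _ = _ := by rw [ab, k b e2]
  refine ⟨?_, fun w hw ww => ?_⟩
  · let f : Fin 2 × Fin 4 → G := fun p => ![1, z] p.1 * (![1, a, b, a * b] p.2)⁻¹
    have h1 : (Q : Set G) ⊆ Set.range f := fun w hw => by
      obtain ⟨t, ht, e⟩ := all w hw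
      obtain ⟨j, rfl⟩ : ∃ j, ![1, a, b, a * b] j = t := by
        rcases ht with rfl | rfl | rfl | rfl
        exacts [⟨0, rfl⟩, ⟨1, rfl⟩, ⟨2, rfl⟩, ⟨3, rfl⟩]
      rcases (mem_zp h.oz).1 e with e | e
      · exact ⟨(0, j), (eq_mul_inv_of_mul_eq e).symm⟩
      · exact ⟨(1, j), (eq_mul_inv_of_mul_eq e).symm⟩
    exact (Nat.card_mono (Set.toFinite _) h1).trans ((Finite.card_range_le f).trans (by simp))
  · obtain ⟨t, ht, e⟩ := all w hw
    have k : t ∈ Q → t * t = z → False := fun h1 h2 => ne_of h.oz (by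
      have := sq1 _ e _ (inv_mem h1)
      rw [mul_inv_cancel_right, ww, ← mul_inv_rev, h2] at this
      exact inv_eq_one.1 this.symm)
    rcases ht with rfl | rfl | rfl | rfl
    · simpa using e
    exacts [(k ha aa).elim, (k hb bb).elim, (k (mul_mem ha hb) ab2).elim]

end AF

/-- `⟨z, u⟩` is a normal four-group of `S`, and `z` is the only central involution. -/
structure UD (z u : G) (S : Subgroup G) : Prop where
  two : IsPGroup 2 S
  oz : orderOf z = 2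
  mem : z ∈ S
  cen : S ≤ 𝒞[z]
  om : om S ≤ zpowers z
  um : u ∈ S
  uu : u * u = 1
  u0 : u ∉ zpowers z
  uc : ∀ s ∈ S, s * u * s⁻¹ * u⁻¹ ∈ zpowers z

namespace UD

theorem ou (d : UD z u S) : orderOf u = 2 := ord2 (fun e => d.u0 (e ▸ one_mem _)) d.uu

theorem out (d : UD z u S) {s : G} (hs : s ∈ S) (h : s ∉ 𝒞[u]) : s * u * s⁻¹ = z * u :=
  (cj_cases d.oz (d.uc s hs)).resolve_left fun e => h (conj_eq_iff.1 e)

theorem exists_out (d : UD z u S) : ∃ s ∈ S, s ∉ 𝒞[u] := by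
  by_contra! h
  exact d.u0 (d.om ⟨d.um, le_cent1_iff.1 h, d.uu⟩)

theorem mul_mem (d : UD z u S) (ha : a ∈ S) (hb : b ∈ S) (ha' : a ∉ 𝒞[u]) (hb' : b ∉ 𝒞[u]) :
    a⁻¹ * b ∈ 𝒞[u] := conj_eq_iff.1 (by
  calc _ = a⁻¹ * (b * u * b⁻¹) * a := by group
    _ = a⁻¹ * (a * u * a⁻¹) * a := by rw [d.out ha ha', d.out hb hb']
    _ = u := by group)

theorem idx (d : UD z u S) : (S ⊓ 𝒞[u]).relIndex S = 2 := by
  obtain ⟨s, hs, h⟩ := d.exists_out
  refine relIndex_eq_two_of hs (fun k => h k.2) fun e he => ?_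
  by_cases k : e ∈ 𝒞[u]
  · exact Or.inl ⟨he, k⟩
  · exact Or.inr ⟨S.mul_mem (inv_mem hs) he, d.mul_mem hs he h k⟩

theorem normT (d : UD z u S) : S ≤ 𝒩(S ⊓ 𝒞[u]) :=
  (normal_subgroupOf_iff_le_normalizer inf_le_left).1 (normal_of_index_eq_two d.idx)

theorem zT (d : UD z u S) : z ∈ NO6.om (S ⊓ 𝒞[u]) :=
  ⟨⟨d.mem, mem_cent1_comm.1 (d.cen d.um)⟩, le_cent1_iff.1 (inf_le_left.trans d.cen), sq_of d.oz⟩

theorem uT (d : UD z u S) : u ∈ NO6.om (S ⊓ 𝒞[u]) :=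
  ⟨⟨d.um, self_mem_cent1 u⟩, le_cent1_iff.1 inf_le_right, d.uu⟩

theorem omT (d : UD z u S) (ha : a ∈ NO6.om (S ⊓ 𝒞[u])) :
    a ∈ zpowers z ∨ a * u ∈ zpowers z := by
  obtain ⟨s, hs, h⟩ := d.exists_out
  have key : ∀ b ∈ NO6.om (S ⊓ 𝒞[u]), s * b * s⁻¹ = b → b ∈ zpowers z := fun b hb e =>
    d.om ⟨hb.1.1, le_cent1_iff.1 fun t ht => by
      by_cases k : t ∈ 𝒞[u]
      · exact le_cent1_iff.2 hb.2.1 ⟨ht, k⟩
      · simpa using (𝒞[b]).mul_mem (conj_eq_iff.1 e)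
          (le_cent1_iff.2 hb.2.1 ⟨S.mul_mem (inv_mem hs) ht, d.mul_mem hs ht h k⟩), hb.2.2⟩
  have h1 := conj_mem_of_norm (d.normT.trans (norm_om _)) hs ha
  have h2 : s * (s * a * s⁻¹) * s⁻¹ = a := by
    have := conj_eq_iff.2 (le_cent1_iff.2 ha.2.1 (sq_mem_of_two d.idx hs))
    calc _ = s * s * a * (s * s)⁻¹ := by group
      _ = a := this
  have h3 := key _ ((NO6.om _).mul_mem h1 (inv_mem ha)) (by
    calc _ = s * (s * a * s⁻¹) * s⁻¹ * (s * a * s⁻¹)⁻¹ := by group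
      _ = _ := by rw [h2, inv_eq_of_sq ha.2.2, inv_eq_of_sq h1.2.2, ha.2.1 _ h1.1])
  rcases cj_cases d.oz h3 with e | e
  · exact Or.inl (key a ha e)
  · refine Or.inr (key _ ((NO6.om _).mul_mem ha d.uT) ?_)
    calc _ = s * a * s⁻¹ * (s * u * s⁻¹) := by group
      _ = z * (a * z) * u := by rw [e, d.out hs h]; group
      _ = (z * z) * (a * u) := by rw [mem_cent1.1 (d.cen ha.1.1)]; group
      _ = _ := by rw [sq_of d.oz, one_mul]

end UD

theorem exists_three_part (g : G) : ∃ m k : ℕ, ¬ 3 ∣ m ∧ (g ^ m) ^ 3 ^ k = 1 := by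
  obtain ⟨k, m, hm, e⟩ := Nat.exists_eq_pow_mul_and_not_dvd (orderOf_pos g).ne' 3 (by norm_num)
  exact ⟨m, k, hm, by rw [← pow_mul, mul_comm, ← e, pow_orderOf_eq_one]⟩

/-- An element of order three permuting the involutions of the normal four-group. -/
theorem Hyp.exists_y (h : Hyp G) (S : Sylow 2 G) (d : UD z u S) :
    ∃ y, orderOf y = 3 ∧ y ∈ 𝒩((S : Subgroup G) ⊓ 𝒞[u]) ∧ y * z * y⁻¹ * u ∈ zpowers z := by
  obtain ⟨c, hc⟩ := isConj_iff.1 (h.one z u d.oz d.ou)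
  have h1 : cj c (S : Subgroup G) ≤ 𝒞[u] := by rw [← hc, ← cj_cent1]; exact cj_mono _ d.cen
  obtain ⟨g, hg, h2⟩ := sylowOf_Jsub (X := (S : Subgroup G) ⊓ 𝒞[u])
    (((sylowOf_top pr2 S).cj_of_mem (mem_top c)).sub h1 le_top) inf_le_right
    (isPi_of_isPGroup pr2 (d.two.to_le inf_le_left))
  rw [cj_cj] at h2
  have hk : g * c * z * (g * c)⁻¹ = u := by
    calc _ = g * (c * z * c⁻¹) * g⁻¹ := by group
      _ = u := by rw [hc, conj_eq_iff.2 hg]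
  generalize g * c = k at h2 hk
  have h3 : cj k (S : Subgroup G) ≤ 𝒞[u] := by rw [← hk, ← cj_cent1]; exact cj_mono _ d.cen
  have h4 : ((S : Subgroup G) ⊓ 𝒞[u]).relIndex (cj k S) = 2 := by
    have e1 := card_mul_relIndex h2
    have e2 := card_mul_relIndex (inf_le_left : (S : Subgroup G) ⊓ 𝒞[u] ≤ S)
    rw [d.idx] at e2
    rw [card_cj, ← e2] at e1
    exact Nat.eq_of_mul_eq_mul_left (card_pos' _) e1
  have h5 := (normal_subgroupOf_iff_le_normalizer h2).1 (normal_of_index_eq_two h4)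
  have uz : u ≠ z := fun e => d.u0 (e ▸ mem_zpowers u)
  obtain ⟨r, hr, hrz⟩ : ∃ r ∈ cj k (S : Subgroup G), r ∉ 𝒞[z] := by
    by_contra! k'
    have : z ∈ cj k (zpowers z) := cj_mono k d.om
      (cj_om k (S : Subgroup G) ▸ ⟨h2 d.zT.1, le_cent1_iff.1 k', sq_of d.oz⟩)
    rw [cj_zpowers, hk, mem_zp d.ou] at this
    exact this.elim (ne_of d.oz) uz.symm
  have ru : r * u * r⁻¹ = u := conj_eq_iff.2 (h3 hr)
  have zu : z * u = u * z := (mem_cent1.1 (d.cen d.um)).symm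
  have rz : r * z * r⁻¹ = z * u := by
    rcases d.omT (conj_mem_of_norm (h5.trans (norm_om _)) hr d.zT) with e | e <;>
      rcases (mem_zp d.oz).1 e with e | e
    · exact absurd (by simpa using e) (ne_of d.oz)
    · exact absurd (conj_eq_iff.1 e) hrz
    · rw [← ru, show r * z * r⁻¹ * (r * u * r⁻¹) = r * (z * u) * r⁻¹ by group] at e
      exact absurd (by
        rw [← inv_eq_of_sq d.uu]
        exact (eq_inv_of_mul_eq_one_left (by simpa using e)).symm) uz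
    · rw [← inv_eq_of_sq d.uu]; exact eq_mul_inv_of_mul_eq e
  obtain ⟨s, hs, hsu⟩ := d.exists_out
  have gN : r * s ∈ 𝒩((S : Subgroup G) ⊓ 𝒞[u]) := mul_mem (h5 hr) (d.normT hs)
  have g1 : r * s * z * (r * s)⁻¹ = z * u := by
    calc _ = r * (s * z * s⁻¹) * r⁻¹ := by group
      _ = _ := by rw [conj_eq_iff.2 (d.cen hs), rz]
  have g2 : r * s * u * (r * s)⁻¹ = z := by
    calc _ = r * (s * u * s⁻¹) * r⁻¹ := by group
      _ = r * z * r⁻¹ * (r * u * r⁻¹) := by rw [d.out hs hsu]; group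
      _ = _ := by rw [rz, ru, mul_assoc, d.uu, mul_one]
  generalize r * s = t at gN g1 g2
  have g3 : t ^ 2 * z * (t ^ 2)⁻¹ = u := by
    calc _ = t * (t * z * t⁻¹) * t⁻¹ := by rw [sq]; group
      _ = t * (z * u) * t⁻¹ := by rw [g1]
      _ = t * z * t⁻¹ * (t * u * t⁻¹) := by group
      _ = _ := by rw [g1, g2, mul_assoc, ← zu, ← mul_assoc, sq_of d.oz, one_mul]
  have g4 : t ^ 3 ∈ 𝒞[z] := conj_eq_iff.1 (by
    calc _ = t * (t ^ 2 * z * (t ^ 2)⁻¹) * t⁻¹ := by group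
      _ = z := by rw [g3, g2])
  have g5 : t ^ 3 ∈ 𝒞[u] := conj_eq_iff.1 (by
    calc _ = t ^ 2 * (t * u * t⁻¹) * (t ^ 2)⁻¹ := by group
      _ = u := by rw [g2, g3])
  obtain ⟨m, n, hm, hn⟩ := exists_three_part t
  have g6 : t ^ m * z * (t ^ m)⁻¹ * u ∈ zpowers z := by
    have e : t ^ m * z * (t ^ m)⁻¹ = t ^ (m % 3) * z * (t ^ (m % 3))⁻¹ := by
      conv_lhs => rw [← Nat.mod_add_div m 3, pow_add, pow_mul]
      calc _ = t ^ (m % 3) * ((t ^ 3) ^ (m / 3) * z * ((t ^ 3) ^ (m / 3))⁻¹) * (t ^ (m % 3))⁻¹ := by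
            group
        _ = _ := by rw [conj_eq_iff.2 (pow_mem g4 _)]
    rw [e]
    rcases (by omega : m % 3 = 1 ∨ m % 3 = 2) with e' | e' <;> rw [e']
    · rw [pow_one, g1, mul_assoc, d.uu, mul_one]; exact mem_zpowers z
    · rw [g3, d.uu]; exact one_mem _
  refine ⟨t ^ m, orderOf_eq_prime ?_ fun e => d.u0 ?_, pow_mem gN _, g6⟩
  · by_contra k'
    have e3 : (t ^ m) ^ 3 = (t ^ 3) ^ m := by rw [← pow_mul, mul_comm, pow_mul]
    have c1 : (t ^ m) ^ 3 ∈ 𝒞[z] := e3 ▸ pow_mem g4 m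
    have c2 : (t ^ m) ^ 3 ∈ 𝒞[u] := e3 ▸ pow_mem g5 m
    exact h.not23 ⟨z, u, _, d.oz, d.ou, uz.symm, orderOf_eq_prime (h.cube (n := n) d.oz
      (mem_cent1.1 c1) (by rw [← pow_mul, mul_comm, pow_mul, hn, one_pow])) k', zu,
      (mem_cent1.1 c1).symm, (mem_cent1.1 c2).symm⟩
  · rw [e] at g6
    simpa using mul_mem (inv_mem (mem_zpowers z)) g6

end Cfsg.Agent.SC6
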