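import Cfsg.Agent.SC6.Out
import Cfsg.Agent.SC6.U
import Cfsg.Agent.H9.SLBasic

set_option autoImplicit false
set_option linter.unusedSectionVars false

namespace Cfsg.Agent.SC6

open Cfsg Cfsg.Agent.H49 Cfsg.Agent.NO6 Subgroup

theorem card_l27 : Nat.card (Matrix.ProjectiveSpecialLinearGroup (Fin 2) (ZMod 7)) = 168 := by
  have : Fact (Nat.Prime 7) := ⟨by decide⟩
  have := H9.gcd_mul_card_psl_two (F := ZMod 7)
  rw [ZMod.card, show Nat.gcd 2 (7 - 1) = 2 by norm_num] at this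
  omega

theorem card_a5 : Nat.card (alternatingGroup (Fin 5)) = 60 := by
  rw [nat_card_alternatingGroup, Nat.card_eq_fintype_card, Fintype.card_fin]; rfl

theorem card_s3 : Nat.card (Equiv.Perm (Fin 3)) = 6 := by
  rw [Nat.card_perm, Nat.card_eq_fintype_card, Fintype.card_fin]; rfl

theorem three_dvd_of_normal_s3 (K : Subgroup (Equiv.Perm (Fin 3))) (hK : K.Normal) (h : K ≠ ⊥) :
    3 ∣ Nat.card K := by
  obtain ⟨a, ha, h1⟩ := ne_bot_iff_exists.1 h
  obtain ⟨b, h2, h3⟩ := (by decide +kernel : ∀ a : Equiv.Perm (Fin 3), a ≠ 1 →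
    ∃ b, b * a * b⁻¹ * a⁻¹ ≠ 1 ∧ (b * a * b⁻¹ * a⁻¹) ^ 3 = 1) a h1
  exact (orderOf_eq_prime h3 h2).symm.dvd.trans
    (orderOf_dvd_natCard K (mul_mem (hK.conj_mem a ha b) (inv_mem ha)))

/-- Central elements of a Sylow subgroup that are conjugate are conjugate in its normalizer. -/
theorem burnside {G : Type*} [Group G] [Finite G] (S : Sylow 2 G) {a b : G}
    (ha : a ∈ 𝒞((S : Subgroup G))) (hb : b ∈ 𝒞((S : Subgroup G))) (h : IsConj a b) :
    ∃ n ∈ 𝒩((S : Subgroup G)), n * a * n⁻¹ = b := by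
  obtain ⟨c, hc⟩ := isConj_iff.1 h
  obtain ⟨n, hn, e⟩ := S.conj_eq_normalizer_conj_of_mem_centralizer a c⁻¹ ha (by rwa [inv_inv, hc])
  exact ⟨n⁻¹, inv_mem hn, by rw [inv_inv, ← e, inv_inv, hc]⟩

/-- If an element of order three normalizes a Sylow 2-subgroup and centralizes a central
involution of it, the Sylow 2-subgroup has exponent two. -/
theorem Hyp.lemA {G : Type*} [Group G] [Finite G] (h : Hyp G) (S : Sylow 2 G) {z x : G}
    (hz : orderOf z = 2) (hzS : z ∈ (S : Subgroup G)) (hS : (S : Subgroup G) ≤ 𝒞[z])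
    (hx : orderOf x = 3) (hxS : x ∈ 𝒩((S : Subgroup G))) (hzx : z * x = x * z) :
    ∀ s ∈ (S : Subgroup G), s * s = 1 := by
  have af := h.af S.isPGroup' hz hx hzS hS hxS hzx
  have syl := sylowOf_top pr2 S
  by_cases h0 : om (S : Subgroup G) ≤ zpowers z
  · exfalso
    rcases af.exists_u S.isPGroup' le_rfl le_normalizer hS (fun s hs =>
      ⟨s * (x * s⁻¹ * x⁻¹), mul_mem hs (af.conj_mem (inv_mem hs)), Or.inl (by group)⟩) with
      ⟨u, hu, uu, u0, uc⟩ | ⟨-, k⟩
    · have d : UD z u S := ⟨S.isPGroup', hz, hzS, hS, h0, hu, uu, u0, uc⟩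
      obtain ⟨y, hy, yn, -⟩ := h.exists_y S d
      have h1 := card_mul_relIndex (inf_le_left : (S : Subgroup G) ⊓ 𝒞[u] ≤ S)
      have h2 := af.mod
      rw [d.idx] at h1
      have fp := (h.fp_or (S.isPGroup'.to_le inf_le_left) hy yn).resolve_right (by omega)
      have hv : x * u * x⁻¹ ∈ (S : Subgroup G) ⊓ 𝒞[u] :=
        ⟨af.conj_mem hu, mem_cent1.2 (af.v_comm hu uu).symm⟩
      have v0 : x * u * x⁻¹ ∉ zpowers z := fun k => u0 (by
        simpa [mul_assoc] using conj_mem_of_norm' le_rfl af.xN k)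
      have d' : UD z (x * u * x⁻¹) S :=
        ⟨S.isPGroup', hz, hzS, hS, h0, hv.1, conj_sq uu x, v0, af.conj_comm uc⟩
      obtain ⟨a, ha, ha'⟩ : ∃ a ∈ (S : Subgroup G) ⊓ 𝒞[u], a ∉ 𝒞[x * u * x⁻¹] := by
        by_contra! k
        rcases d.omT ⟨hv, le_cent1_iff.1 k, conj_sq uu x⟩ with e | e
        · exact v0 e
        · exact u0 (af.fix1 hu (by rwa [inv_eq_of_sq uu]))
      refine fp.relIndex_ne_two inf_le_left (fp.norm_cent1 hv)
        (relIndex_eq_two_of ha (fun k => ha' k.2) fun e he => ?_)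
      by_cases k : e ∈ 𝒞[x * u * x⁻¹]
      · exact Or.inl ⟨he, k⟩
      · exact Or.inr ⟨Subgroup.mul_mem _ (Subgroup.inv_mem _ ha) he, d'.mul_mem ha.1 he.1 ha' k⟩
    · obtain ⟨a, b, ha, hb, hab, c⟩ := h.four
      obtain ⟨g, -, hg⟩ := sylowOf_subJ (X := zpowers a ⊔ zpowers b) syl le_top
        ((isPi_of_isPGroup pr2 (zp_two ha)).sup (isPi_of_isPGroup pr2 (zp_two hb))
          (Or.inl (zpowers_le.2 ((norm_zp hb).symm ▸ mem_cent1.2 c))))
      have key : ∀ t ∈ zpowers a ⊔ zpowers b, orderOf t = 2 → g * t * g⁻¹ = z := fun t ht o =>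
        ((mem_zp hz).1 (k _ (hg (conj_mem_cj.2 ht)) (conj_sq (sq_of o) g))).resolve_left
          fun e => ne_of o (by simpa using e)
      have := (key a (mem_sup_left (mem_zpowers a)) ha).trans
        (key b (mem_sup_right (mem_zpowers b)) hb).symm
      exact hab (by simpa using this)
  obtain ⟨u0, hu0, h0⟩ := SetLike.not_le_iff_exists.1 h0
  have ou : orderOf u0 = 2 := ord2 (fun e => h0 (e ▸ one_mem _)) hu0.2.2
  have zE := af.om.mem
  have hC : (S : Subgroup G) ≤ 𝒞(om (S : Subgroup G)) := le_cent_om _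
  have hL := hC.trans (cent_le_norm _)
  have K3 : ¬ 3 ∣ Nat.card 𝒞(om (S : Subgroup G)) := fun k => by
    obtain ⟨y, hy, oy⟩ := exists_orderOf_eq_of_dvd_card pr3 k
    exact h.not23 ⟨z, u0, y, hz, ou, fun e => h0 (e ▸ mem_zpowers z), oy, hu0.2.1 z hzS,
      hy z zE, hy u0 hu0⟩
  have key : ∀ (M : Type) [Group M] (φ : ↥𝒩(om (S : Subgroup G)) →* M), Function.Surjective φ →
      (∀ K : Subgroup M, K.Normal → K ≠ ⊥ → 3 ∣ Nat.card K) → 2 ∣ Nat.card M → False := by
    intro M _ φ hφ h3 h2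
    have hn := normal_subgroupOf (norm_cent le_rfl : 𝒩(om (S : Subgroup G)) ≤ _)
    refine K3 (((h3 _ (hn.map φ hφ) fun e => ?_).trans (card_map_dvd _ _)).trans ?_)
    · have h4 := index_dvd_of_le ((Subgroup.map_eq_bot_iff _).1 e)
      rw [index_ker, MonoidHom.range_eq_top.2 hφ, card_top] at h4
      exact ((syl.sub hL le_top).index_of_le hC) 2 pr2 (h2.trans h4) rfl
    · rw [card_subgroupOf]; exact card_dvd_of_le inf_le_left
  have simp' : ∀ (M : Type) [Group M] [IsSimpleGroup M], 3 ∣ Nat.card M →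
      ∀ K : Subgroup M, K.Normal → K ≠ ⊥ → 3 ∣ Nat.card K := fun M _ _ h3 K hK h1 => by
    rwa [hK.eq_bot_or_eq_top.resolve_left h1, card_top]
  rcases h.out af.om (fun a ha => ha.2.2) with ⟨R, N, n, h3 | ⟨φ, hφ, -⟩⟩ | ⟨φ, hφ, -⟩ | ⟨φ, hφ, -⟩
  rotate_left
  · exact (key _ φ hφ three_dvd_of_normal_s3 (by rw [card_s3]; norm_num)).elim
  · exact (key _ φ hφ (simp' _ (by rw [card_a5]; norm_num)) (by rw [card_a5]; norm_num)).elim
  · have : Fact (Nat.Prime 7) := ⟨by decide⟩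
    have := Matrix.ProjectiveSpecialLinearGroup.rank_two_simple (F := ZMod 7) (by simp)
    exact (key _ φ hφ (simp' _ (by rw [card_l27]; norm_num)) (by rw [card_l27]; norm_num)).elim
  have hR : (S : Subgroup G) = R := syl.eq_of_le
    ((n.syl.of_index n.le3 (by
      rw [h3]; intro p hp hd e
      rw [Set.mem_singleton_iff.1 e] at hd
      omega)).le_of_normal n.normR hL syl.pi) le_top n.syl.pi
  intro s hs
  by_contra hss
  let O : Set G := {k | k ∈ N ∧ Odd (orderOf k)}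
  have hA := inf_center_ne_bot_of_nilpotent (N := (S : Subgroup G) ⊓ centralizer O)
    syl.pi.nilpotent inf_le_left (le_norm_iff.2 fun t ht a ha =>
      ⟨conj_mem_of_norm le_normalizer ht ha.1, fun k hk => by
        have := ha.2 (t⁻¹ * k * t) ⟨conj_mem_of_norm' n.normN (hL ht) hk.1, by
          have := (MulAut.conj t⁻¹).orderOf_eq k
          rw [MulAut.conj_apply, inv_inv] at this
          exact this ▸ hk.2⟩
        calc _ = t * (t⁻¹ * k * t * a) * t⁻¹ := by group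
          _ = _ := by rw [this]; group⟩)
    (ne_bot_iff_exists.2 ⟨s * s, ⟨mul_mem hs hs, fun k hk => by
      have he := n.comm k hk.1 hk.2 s (hR ▸ hs)
      generalize hd : k * s * k⁻¹ * s⁻¹ = e at he
      have e1 : k * s = e * s * k := by rw [← hd]; group
      calc _ = (k * s) * s := by group
        _ = e * s * k * s := by rw [e1]
        _ = e * s * (k * s) := by group
        _ = e * s * (e * s * k) := by rw [e1]
        _ = e * (s * e) * s * k := by group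
        _ = (e * e) * (s * s * k) := by rw [he.2.1 s hs]; group
        _ = _ := by rw [he.2.2, one_mul]⟩, hss⟩)
  obtain ⟨u, ⟨⟨hu, hu1⟩, hu2⟩, u1, uu⟩ := exists_invol
    (S.isPGroup'.to_le (inf_le_left.trans inf_le_left)) hA
  have hN : N ≤ 𝒞[u] := le_of_sylowOf_le fun p hp _ => by
    by_cases e : p = 2
    · exact ⟨R, e ▸ n.syl, hR ▸ le_cent1_iff.2 hu2⟩
    obtain ⟨P, hP⟩ := exists_sylowOf p N
    refine ⟨P, hP, fun k hk => mem_cent1.2 (hu1 k ⟨hP.le hk, ?_⟩)⟩
    rw [← Nat.not_even_iff_odd, even_iff_two_dvd]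
    exact fun k' => e (hP.pi 2 pr2 (k'.trans (orderOf_dvd_natCard P hk))).symm
  obtain ⟨m, hm, e⟩ := burnside S hu2 zE.2.1 (h.one u z (ord2 u1 uu) hz)
  have hN' : N ≤ 𝒞[z] := by
    rw [← e, ← cj_cent1, ← cj_eq_of_mem_norm (n.normN (norm_om _ hm))]
    exact cj_mono _ hN
  have hLz : 𝒩(om (S : Subgroup G)) ≤ 𝒞[z] := by
    rcases (Nat.dvd_prime pr3).1 (h3 ▸ relIndex_dvd_of_le_left _ hN') with e1 | e1
    · exact relIndex_eq_one.1 e1
    · have e2 := card_inf_mul_relIndex 𝒞[z] 𝒩(om (S : Subgroup G))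
      rw [e1, ← card_mul_relIndex n.le3, h3] at e2
      refine (n.n3 ?_).elim
      rw [← Nat.eq_of_mul_eq_mul_right (by norm_num) e2, ← hx]
      exact orderOf_dvd_natCard _ ⟨mem_cent1.2 hzx.symm, af.om.norm⟩
  obtain ⟨m', hm', e'⟩ := burnside S zE.2.1 hu0.2.1 (h.one z u0 hz ou)
  exact h0 (by rw [← e', conj_eq_iff.2 (hLz (norm_om _ hm'))]; exact mem_zpowers z)

end Cfsg.Agent.SC6
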