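import Cfsg.Agent.SC6.Defs
import Cfsg.Agent.H66.PSL2Cent
import Cfsg.Agent.H9.SLBasic
import Cfsg.Agent.H20.U3Syl
import Cfsg.Agent.H14.MInv
import Cfsg.Prelude.Def_Spor_Mathieu
import Cfsg.Prelude.Def_Classical

set_option autoImplicit false

namespace Cfsg.Agent.SC6

open Cfsg Subgroup

/-- A self-centralizing element of order six in `PSL(2, q)` forces `q = 11` or `13`. -/
theorem psl2_card {F : Type*} [Field F] [Fintype F]
    (t : Matrix.ProjectiveSpecialLinearGroup (Fin 2) F) (ht : orderOf t = 6)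
    (hC : centralizer ({t} : Set (Matrix.ProjectiveSpecialLinearGroup (Fin 2) F)) = zpowers t) :
    Fintype.card F = 11 ∨ Fintype.card F = 13 := by
  obtain ⟨g, rfl⟩ := H66.toPSL_surjective t
  have h1 := (centralizer {H66.toPSL F g}).card_mul_index
  have h2 := H9.gcd_mul_card_psl_two (F := F)
  rw [← h1, congrArg (fun K : Subgroup _ => Nat.card K) hC, Nat.card_zpowers, ht] at h2
  have h0 : H66.tr2 g ≠ 0 := H66.tr2_ne_zero_of_orderOf fun h =>
    absurd (ht ▸ (orderOf_map_dvd (H66.toPSL F) g).trans h) (by norm_num)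
  have hq : 2 ≤ Fintype.card F := Fintype.one_lt_card
  obtain ⟨p, -, n, hp, hpn⟩ := FiniteField.card' F
  have h6 : Fintype.card F ≠ 6 := fun e => by
    have a := (Nat.prime_dvd_prime_iff_eq Nat.prime_two hp).1
      (Nat.prime_two.dvd_of_dvd_pow (n := n) (by rw [← hpn, e]; norm_num))
    have b := (Nat.prime_dvd_prime_iff_eq Nat.prime_three hp).1
      (Nat.prime_three.dvd_of_dvd_pow (n := n) (by rw [← hpn, e]; norm_num))
    omega
  obtain ⟨m, hm⟩ : ∃ m, Fintype.card F = m + 1 := ⟨Fintype.card F - 1, by omega⟩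
  have e1 : Fintype.card F ^ 2 - 1 = (m + 2) * m := by
    rw [H66.sq_sub_one_eq, hm]; rfl
  have hd : Nat.gcd 2 m = 1 ∧ m % 2 = 1 ∨ Nat.gcd 2 m = 2 ∧ m % 2 = 0 := by
    rcases Nat.mod_two_eq_zero_or_one m with h | h
    · exact Or.inr ⟨Nat.gcd_eq_left (Nat.dvd_of_mod_eq_zero h), h⟩
    · exact Or.inl ⟨by rw [Nat.gcd_rec, h]; rfl, h⟩
  have hm0 : 0 < m := by omega
  by_cases h4 : H66.tr2 g ^ 2 = 4
  · have hg : H66.NonSc g.1 := by
      by_contra hg
      rcases (H66.not_nonSc_iff g).1 hg with rfl | rfl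
      · simp at ht
      · have h7 := orderOf_map_dvd (H66.toPSL F) (-1)
        have h8 : orderOf (-1 : Matrix.SpecialLinearGroup (Fin 2) F) ∣ 2 :=
          orderOf_dvd_of_pow_eq_one (by simp)
        exact absurd (ht ▸ h7.trans h8) (by norm_num)
    rw [H66.cs_unipotent hg h4, e1, hm, Nat.add_sub_cancel, mul_left_comm, Nat.mul_div_cancel'
      ((Nat.gcd_dvd_right 2 m).mul_left _)] at h2
    have := Nat.eq_of_mul_eq_mul_right (by positivity) h2
    omega
  by_cases hs : H66.Split (H66.tr2 g)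
  · rw [H66.cs_split h4 h0 hs, e1, hm, Nat.add_sub_cancel] at h2
    have h3 : Nat.gcd 2 m * 6 * ((m + 1) * (m + 2)) = m * ((m + 1) * (m + 2)) := by
      rw [mul_assoc, h2]; ring
    have := Nat.eq_of_mul_eq_mul_right (by positivity) h3
    omega
  · rw [H66.cs_nonsplit h0 hs, e1, hm, Nat.add_sub_cancel] at h2
    have h3 : Nat.gcd 2 m * 6 * ((m + 1) * m) = (m + 2) * ((m + 1) * m) := by
      rw [mul_assoc, h2]; ring
    have := Nat.eq_of_mul_eq_mul_right (by positivity) h3
    omega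

theorem has23_alt8 : Has23 (alternatingGroup (Fin 8)) :=
  ⟨⟨Equiv.swap 0 1 * Equiv.swap 2 3, Equiv.Perm.mem_alternatingGroup.2 (by decide)⟩,
    ⟨Equiv.swap 0 2 * Equiv.swap 1 3, Equiv.Perm.mem_alternatingGroup.2 (by decide)⟩,
    ⟨Equiv.swap 4 5 * Equiv.swap 5 6, Equiv.Perm.mem_alternatingGroup.2 (by decide)⟩,
    orderOf_eq_prime (by decide) (by decide),
    orderOf_eq_prime (by decide) (by decide), by decide,
    orderOf_eq_prime (hp := ⟨Nat.prime_three⟩) (by decide) (by decide), by decide, by decide,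
    by decide⟩

theorem has23_alt9 : Has23 (alternatingGroup (Fin 9)) :=
  ⟨⟨Equiv.swap 0 1 * Equiv.swap 2 3, Equiv.Perm.mem_alternatingGroup.2 (by decide)⟩,
    ⟨Equiv.swap 0 2 * Equiv.swap 1 3, Equiv.Perm.mem_alternatingGroup.2 (by decide)⟩,
    ⟨Equiv.swap 4 5 * Equiv.swap 5 6, Equiv.Perm.mem_alternatingGroup.2 (by decide)⟩,
    orderOf_eq_prime (by decide) (by decide),
    orderOf_eq_prime (by decide) (by decide), by decide,
    orderOf_eq_prime (hp := ⟨Nat.prime_three⟩) (by decide) (by decide), by decide, by decide,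
    by decide⟩

theorem two_classes_m12 :
    ∃ a b : Spor.M12, orderOf a = 2 ∧ orderOf b = 2 ∧ ¬ IsConj a b := by
  have hA : H14.m12_2A ∈ H14.m12Cl := by simp [H14.m12Cl]
  have hB : H14.m12_2B ∈ H14.m12Cl := by simp [H14.m12Cl]
  refine ⟨⟨_, H14.m12_classes.mem hA⟩, ⟨_, H14.m12_classes.mem hB⟩, ?_, ?_, fun h => ?_⟩
  · rw [orderOf_mk]
    exact H14.m12_classes.orderOf_eq hA (f := 30) (by decide +kernel) two_ne_zero
  · rw [orderOf_mk]
    exact H14.m12_classes.orderOf_eq hB (f := 30) (by decide +kernel) two_ne_zero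
  · obtain ⟨c, hc⟩ := isConj_iff.1 h
    have h1 := H14.m12_classes.card _ hB
    have h2 : (c : Equiv.Perm _) * H14.GE.perm H14.m12_2A.X * (c : Equiv.Perm _)⁻¹ =
      H14.GE.perm H14.m12_2B.X := congrArg Subtype.val hc
    rw [← h2, H14.card_centralizer_conj c.2, H14.m12_classes.card _ hA] at h1
    exact absurd h1 (by decide)

theorem card_psu34 {F : Type*} [Field F] [Fintype F] (hF : Fintype.card F = 16) :
    Nat.card (Cfsg.PSU 3 F 4) = 62400 := by
  have : Fact (Fintype.card F = 4 ^ 2) := ⟨hF⟩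
  have h1 := H10.card_PSU_mul (F := F) (q := 4) (n := 3) (by norm_num)
  have h2 := H10.card_SU_mul (F := F) (q := 4) (n := 3) (by norm_num)
  rw [H10.card_GU] at h2
  simp only [Finset.prod_range_succ, Finset.prod_range_zero] at h2
  norm_num [Nat.even_add_one] at h1 h2
  omega

end Cfsg.Agent.SC6
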