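import Cfsg.Agent.SC6.B1
import Cfsg.Agent.SC6.LemA
import Cfsg.Agent.SC6.Known
import Cfsg.Agent.NG.S33
import Cfsg.Agent.H50.PGroup
import Cfsg.Agent.H57.ES
import Cfsg.Agent.S3344

/-!
The case `C(z)/O₂(C(z))` of symmetric type with a normal four-group does not occur.
-/

set_option autoImplicit false
set_option linter.unusedSectionVars false

namespace Cfsg.Agent.SC6

open Cfsg Cfsg.Agent.H49 Cfsg.Agent.NO6 Subgroup

universe u

variable {G : Type u} [Group G] [Finite G] {x y z a g u s t : G} {Q S T X E C R : Subgroup G}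

theorem card_le_sq (hE : E ≤ om E) (ht : t ∈ 𝒩(E)) (h2 : t * t ∈ 𝒞(E)) :
    Nat.card E ≤ Nat.card ↥(E ⊓ 𝒞[t]) * Nat.card ↥(E ⊓ 𝒞[t]) := by
  have hn : ∀ e ∈ E, t * e * t⁻¹ ∈ E := fun e he => conj_mem_of_norm le_rfl ht he
  let f : E →* G :=
    { toFun := fun e => e * (t * e * t⁻¹)
      map_one' := by simp
      map_mul' := fun a b => by
        have h1 := (hE b.2).2.1 _ (hn a a.2)
        rw [coe_mul]
        calc (a : G) * b * (t * (a * b) * t⁻¹) = a * (b * (t * a * t⁻¹)) * (t * b * t⁻¹) := by group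
          _ = _ := by rw [← h1]; group }
  have hr : f.range ≤ E ⊓ 𝒞[t] := by
    rintro _ ⟨e, rfl⟩
    refine ⟨E.mul_mem e.2 (hn e e.2), mem_cent1_comm.1 (conj_eq_iff.1 ?_)⟩
    show t * ((e : G) * (t * e * t⁻¹)) * t⁻¹ = e * (t * e * t⁻¹)
    calc _ = t * e * t⁻¹ * (t * t * e * (t * t)⁻¹) := by group
      _ = _ := by rw [← h2 e e.2, mul_inv_cancel_right, (hE e.2).2.1 _ (hn e e.2)]
  have hk : f.ker.map E.subtype ≤ E ⊓ 𝒞[t] := by
    rintro _ ⟨e, he, rfl⟩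
    refine ⟨e.2, mem_cent1_comm.1 (conj_eq_iff.1 ?_)⟩
    have h1 : (e : G) * (t * e * t⁻¹) = 1 := he
    exact (eq_inv_of_mul_eq_one_right h1).trans (inv_eq_of_sq (hE e.2).2.2)
  rw [← f.ker.card_mul_index, index_ker]
  exact Nat.mul_le_mul (card_subtype E f.ker ▸ card_le_of_le hk) (card_le_of_le hr)

theorem iso_s3 (hS : IsSylowOf 2 S X) (h3 : S.relIndex X = 3) (hT : T ≤ S) (h2 : T.relIndex S = 2)
    (hn : X ≤ 𝒩(T)) (h0 : ¬ X ≤ 𝒩(S)) : T = (pCore 2 X).map X.subtype ∧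
      Nonempty (X ⧸ pCore 2 X ≃* Equiv.Perm (Fin 3)) := by
  have h1 : T ≤ piCoreOf {2} X := le_piCoreOf (hT.trans hS.le) hn (hS.pi.of_le hT)
  have h4 : T = piCoreOf {2} X := by
    have e := relIndex_mul_relIndex _ _ _ h1 hS.piCoreOf_le
    rw [h2] at e
    rcases (Nat.dvd_prime pr2).1 (Dvd.intro _ e) with k | k
    · exact le_antisymm h1 (relIndex_eq_one.1 k)
    · rw [k] at e
      refine (h0 ?_).elim
      rw [← le_antisymm hS.piCoreOf_le (relIndex_eq_one.1 (by omega))]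
      exact le_norm_piCoreOf _ _
  rw [← pCore_map_subtype pr2] at h4
  refine ⟨h4, NG.iso_perm3 (T := S) ⟨hS.le, (isPi_singleton_iff pr2).1 hS.pi, fun Q k1 k2 k3 =>
    (hS.eq_of_le k3 k1 (isPi_of_isPGroup pr2 k2)).symm⟩ h3 ?_⟩
  show ((pCore 2 X).map X.subtype).relIndex X = 6
  rw [← h4, ← relIndex_mul_relIndex _ _ _ hT hS.le, h2, h3]

theorem AF.comm_of_four (h : AF z x Q) (hC : C ≤ Q) (hz : z ∈ C) (h4 : C.relIndex Q = 4)
    (hc : quo C (zpowers z) ≤ 𝒞(quo Q (zpowers z))) (hg : g ∈ Q) (ha : a ∈ Q) :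
    a * g * a⁻¹ * g⁻¹ ∈ zpowers z := by
  have hg' := coset_mem_quo (x := ⟨g, h.leN hg⟩) hg
  have h1 : quo C (zpowers z) ≤ quo Q (zpowers z) ⊓ 𝒞[coset _ ⟨g, h.leN hg⟩] :=
    le_inf (quo_mono _ hC) (hc.trans (cent_le_cent1 hg'))
  have h2 := relIndex_mul_relIndex _ _ _ h1 inf_le_left
  rw [relIndex_quo (zpowers_le.2 hz) h.leN, h4] at h2
  have h3 := h.fp.relIndex_ne_two inf_le_left (h.fp.norm_cent1 hg')
  have h5 : quo Q (zpowers z) ≤ 𝒞[coset _ ⟨g, h.leN hg⟩] := by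
    obtain ⟨i, hi, e⟩ := (Nat.dvd_prime_pow pr2 (m := 2)).1 (Dvd.intro_left _ h2)
    interval_cases i
    · exact (relIndex_eq_one.1 e).trans inf_le_right
    · exact (h3 e).elim
    · rw [e] at h2
      have k : quo Q (zpowers z) ⊓ 𝒞[coset _ ⟨g, h.leN hg⟩] ≤ quo C (zpowers z) :=
        relIndex_eq_one.1 (by omega)
      exact le_cent1_iff.2 (hc (k ⟨hg', self_mem_cent1 _⟩))
  exact coset_comm_iff.1 (mem_cent1.1 (h5 (coset_mem_quo (x := ⟨a, h.leN ha⟩) ha)))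

theorem UD.four (d : UD z u S) : IsElem 2 2 (zpowers z ⊔ zpowers u) (NO6.om (S ⊓ 𝒞[u])) :=
  (isElem_zpowers pr2 d.zT d.oz).sup_of_cent (isElem_zpowers pr2 d.uT d.ou)
    (cent_zpowers u ▸ zpowers_le.2 d.zT.1.2)
    ((isElem_zpowers pr2 d.zT d.oz).inf_eq_bot (isElem_zpowers pr2 d.uT d.ou) pr2
      fun e => d.u0 (e ▸ mem_zpowers u))

theorem UD.om_le (d : UD z u S) : NO6.om (S ⊓ 𝒞[u]) ≤ zpowers z ⊔ zpowers u := fun a ha =>
  (d.omT ha).elim mem_sup_left fun k => by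
    simpa using Subgroup.mul_mem _ (mem_sup_left k) (inv_mem (mem_sup_right (mem_zpowers u)))

theorem BL.eight (b : BL S z x s Q) (h0 : om S ≤ zpowers z) (hu : u ∈ Q) (uu : u * u = 1)
    (u0 : u ∉ zpowers z) (uc : ∀ s ∈ S, s * u * s⁻¹ * u⁻¹ ∈ zpowers z) :
    IsElem 2 3 (zpowers z ⊔ zpowers u ⊔ zpowers (x * u * x⁻¹))
      (Q ⊓ 𝒞[u] ⊓ 𝒞[x * u * x⁻¹]) := by
  have d : UD z u Q := ⟨b.af.two, b.af.oz, b.af.mem, b.af.cen, b.omQ h0, hu, uu, u0,
    fun r hr => uc r (b.le hr)⟩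
  have hv := b.af.conj_mem hu
  have vc := b.af.v_comm hu uu
  have v0 : x * u * x⁻¹ ∉ zpowers z ⊔ zpowers u := fun k => by
    rcases d.omT (d.four.le k) with e | e
    · exact u0 (by simpa [mul_assoc] using conj_mem_of_norm' le_rfl b.af.xN e)
    · exact u0 (b.af.fix1 hu (by rwa [inv_eq_of_sq uu]))
  have ov : orderOf (x * u * x⁻¹) = 2 := ord2 (fun e => v0 (e ▸ one_mem _)) (conj_sq uu x)
  have h1 : zpowers z ⊔ zpowers u ≤ 𝒞[x * u * x⁻¹] :=
    sup_le (zpowers_le.2 (mem_cent1_comm.1 (b.af.cen hv))) (zpowers_le.2 (mem_cent1.2 vc))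
  have hV := isElem_zpowers (H := Q ⊓ 𝒞[u] ⊓ 𝒞[x * u * x⁻¹]) pr2
    ⟨⟨hv, mem_cent1.2 vc.symm⟩, self_mem_cent1 _⟩ ov
  exact (d.four.of_le (le_inf (d.four.le.trans (NO6.om_le _)) h1)).sup_of_cent hV
    (cent_zpowers (x * u * x⁻¹) ▸ h1) ((inf_comm _ _).trans
      ((inf_eq_bot_or_le_of_prime_card (hV.prime_card pr2) _).resolve_right
        fun k => v0 (k (mem_zpowers _))))

theorem Hyp.caseB [IsSimpleGroup G] (h : Hyp G) (S : Sylow 2 G) (b : BL S z x s Q)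
    (h0 : om (S : Subgroup G) ≤ zpowers z) (hu : u ∈ Q) (uu : u * u = 1) (u0 : u ∉ zpowers z)
    (uc : ∀ s ∈ (S : Subgroup G), s * u * s⁻¹ * u⁻¹ ∈ zpowers z)
    (h3 : (S : Subgroup G).relIndex 𝒞[z] = 3) (hn : 𝒞[z] ≤ 𝒩(Q)) : False := by
  have af := b.af
  have syl := sylowOf_top pr2 S
  have dS : UD z u S := ⟨b.two, af.oz, b.le af.mem, b.cen, h0, b.le hu, uu, u0, uc⟩
  have dQ : UD z u Q := ⟨af.two, af.oz, af.mem, af.cen, b.omQ h0, hu, uu, u0,
    fun r hr => uc r (b.le hr)⟩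
  have hV := b.eight h0 hu uu u0 uc
  have dV : UD z (x * u * x⁻¹) Q := ⟨af.two, af.oz, af.mem, af.cen, b.omQ h0, af.conj_mem hu,
    conj_sq uu x, fun e => u0 (by simpa [mul_assoc] using conj_mem_of_norm' le_rfl af.xN e),
    af.conj_comm dQ.uc⟩
  obtain ⟨y, hy, yn, yz⟩ := h.exists_y S dS
  have xS := not_mem_two b.two af.ox
  have xH : x ∈ 𝒞[z] := mem_cent1.2 af.zx.symm
  obtain ⟨C, hC⟩ : ∃ C, C = Q ⊓ 𝒞[u] ⊓ 𝒞[x * u * x⁻¹] := ⟨_, rfl⟩
  have CQ : C ≤ Q := hC ▸ inf_le_left.trans inf_le_left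
  have zC : z ∈ C := hC ▸ hV.le (mem_sup_left (mem_sup_left (mem_zpowers z)))
  have xC : x ∈ 𝒩(C) := hC ▸ mem_norm_of_cj_le fun _ hc' => by
    obtain ⟨c, ⟨⟨hc, c1⟩, c2⟩, rfl⟩ := mem_cj'.1 hc'
    refine ⟨⟨af.conj_mem hc, ?_⟩, cj_cent1 x u ▸ conj_mem_cj.2 c1⟩
    have k : c ∈ 𝒞[x⁻¹ * u * x] := mem_cent1_comm.1 (by
      simpa [mul_assoc] using (𝒞[c]).mul_mem ((𝒞[c]).inv_mem ((𝒞[c]).mul_mem
        (mem_cent1_comm.1 c1) (mem_cent1_comm.1 c2)))
        (zpowers_le.2 (mem_cent1_comm.1 (af.cen hc)) (af.prod hu)))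
    have := conj_mem_cj (g := x).2 k
    rwa [cj_cent1, show x * (x⁻¹ * u * x) * x⁻¹ = u by group] at this
  have C2 : C.relIndex (Q ⊓ 𝒞[u]) = 2 := by
    have e1 := relIndex_le_two (H := C) dV.idx (inf_le_left : Q ⊓ 𝒞[u] ≤ Q)
      (hC ▸ le_inf inf_le_left (inf_le_right.trans inf_le_right))
    have e2 := card_mul_relIndex (hC ▸ inf_le_left : C ≤ Q ⊓ 𝒞[u])
    have e3 := card_mul_relIndex (inf_le_left : Q ⊓ 𝒞[u] ≤ Q)
    have e4 := (af.of_le CQ zC xC).mod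
    have e5 := af.mod
    have e6 := relIndex_pos C (Q ⊓ 𝒞[u])
    rw [dQ.idx] at e3
    interval_cases C.relIndex (Q ⊓ 𝒞[u]) <;> omega
  have C4 : C.relIndex Q = 4 := by
    rw [← relIndex_mul_relIndex C _ Q (hC ▸ inf_le_left : C ≤ Q ⊓ 𝒞[u]) inf_le_left, C2, dQ.idx]
  have C8 : C.relIndex S = 8 := by rw [← relIndex_mul_relIndex C Q S CQ b.le, C4, b.idx]
  have star : ∀ R ≤ (S : Subgroup G), x ∈ 𝒩(R) → y ∈ 𝒩(R) → R ≤ C := fun R hR h1 h2 => by
    have k : R ≤ 𝒞[u] := fun r hr => by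
      have k1 := conj_mem_cj (g := y).2 (b.cen (hR (conj_mem_of_norm' le_rfl h2 hr)))
      rw [cj_cent1, show y * (y⁻¹ * r * y) * y⁻¹ = r by group] at k1
      refine mem_cent1_comm.1 ?_
      simpa [mul_assoc] using (𝒞[r]).mul_mem ((𝒞[r]).inv_mem (mem_cent1_comm.1 k1))
        (zpowers_le.2 (mem_cent1_comm.1 (b.cen (hR hr))) yz)
    refine hC ▸ fun r hr => ⟨⟨?_, k hr⟩, ?_⟩
    · by_contra k1
      obtain ⟨q, hq, e⟩ := b.conj_out (hR hr) k1
      have k2 := mul_mem (inv_mem (b.le hq))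
        (hR (mul_mem hr (conj_mem_of_norm le_rfl h1 (inv_mem hr))))
      rw [show q⁻¹ * (r * (x * r⁻¹ * x⁻¹)) = q⁻¹ * (r * x * r⁻¹) * x⁻¹ by group, e,
        inv_mul_cancel_left, ← mul_inv_rev, af.xx, inv_inv] at k2
      exact xS k2
    · have := conj_mem_cj (g := x).2 (k (conj_mem_of_norm' le_rfl h1 hr))
      rwa [cj_cent1, show x * (x⁻¹ * r * x) * x⁻¹ = r by group] at this
  have xn : ¬ 𝒞[z] ≤ 𝒩((S : Subgroup G)) := fun k => by
    have := mul_mem b.sm (conj_mem_of_norm k xH (inv_mem b.sm))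
    rw [show s * (x * s⁻¹ * x⁻¹) = s * x * s⁻¹ * x⁻¹ by group, b.inv, ← mul_inv_rev, af.xx,
      inv_inv] at this
    exact xS this
  obtain ⟨i1, ⟨i2⟩⟩ := iso_s3 (syl.sub b.cen le_top) h3 b.le b.idx hn xn
  have C16 : Nat.card C ≤ 16 := by
    by_cases hK : ∃ K ≤ (S : Subgroup G), 𝒞[z] ≤ 𝒩(K) ∧ y ∈ 𝒩(K) ∧ K ≠ ⊥
    · obtain ⟨K, hK, k1, k2, k0⟩ := hK
      have hE := (om_le K).trans hK
      have SL := (b.cen.trans k1).trans (norm_om K)
      obtain ⟨a, ha, a1, aa⟩ := exists_invol (b.two.to_le (inf_le_left.trans hE))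
        (inf_center_ne_bot_of_nilpotent syl.pi.nilpotent hE SL (om_ne_bot (b.two.to_le hK) k0))
      have zE : z ∈ om K := ((mem_zp af.oz).1 (h0 ⟨hE ha.1, ha.2, aa⟩)).resolve_left a1 ▸ ha.1
      have xE := norm_om K (k1 xH)
      have yE := norm_om K k2
      have key : ∀ R ≤ 𝒩(om K), IsPGroup 2 R → 𝒩(om K) ≤ 𝒩(R) → 8 ∣ R.relIndex 𝒩(om K) :=
        fun R r1 r2 r3 => by
          have r4 := (syl.sub SL le_top).normal_le r1 r3 (isPi_of_isPGroup pr2 r2)
          rw [← C8]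
          exact (relIndex_dvd_relIndex_of_le_right (CQ.trans b.le) SL).trans
            (relIndex_dvd_of_le_left _ (star R r4 (r3 xE) (r3 yE)))
      rcases h.out (h.af (b.two.to_le hE) af.oz af.ox zE (hE.trans b.cen) xE af.zx)
        (fun a ha => ha.2.2) with ⟨R, N, n, k⟩ | ⟨φ, hφ, k⟩ | ⟨φ, hφ, k⟩
      · exfalso
        have e1 := key R (n.syl.le.trans n.le3) n.two n.normR
        have e2 := ((sylowOf_iff pr2).1 n.syl).2.2
        rw [← relIndex_mul_relIndex R N _ n.syl.le n.le3] at e1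
        rcases k with k | ⟨φ, hφ, k⟩
        · rw [k] at e1; omega
        · have : N.relIndex 𝒩(om K) = 6 := by
            rw [relIndex, show N.subgroupOf 𝒩(om K) = φ.ker from Subgroup.ext fun g => (k g).symm,
              index_ker, MonoidHom.range_eq_top.2 hφ, card_top, card_s3]
          rw [this] at e1; omega
      · exfalso
        have e1 := key _ (map_subtype_le φ.ker) (k.map _) (norm_map_subtype _)
        rw [relIndex, ← comap_subtype, comap_map_eq_self_of_injective (subtype_injective _),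
          index_ker, MonoidHom.range_eq_top.2 hφ, card_top, card_a5] at e1
        omega
      · have e1 : (om K).relIndex 𝒩(om K) = 168 := by
          rw [relIndex, show (om K).subgroupOf 𝒩(om K) = φ.ker from
            Subgroup.ext fun g => (k g).symm, index_ker, MonoidHom.range_eq_top.2 hφ, card_top,
            card_l27]
        have EC := star _ hE xE yE
        rw [← relIndex_mul_relIndex _ C _ EC ((CQ.trans b.le).trans SL),
          ← relIndex_mul_relIndex C _ _ (CQ.trans b.le) SL, C8] at e1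
        have e2 : C ≤ om K := by
          obtain ⟨n, hn⟩ := (IsPGroup.iff_card.1 (af.two.to_le CQ))
          obtain ⟨i, -, e⟩ := (Nat.dvd_prime_pow pr2).1 (hn ▸ relIndex_dvd_card (om K) C)
          refine relIndex_eq_one.1 ?_
          rcases i with _ | i
          · exact e
          · rw [e, pow_succ, mul_assoc, mul_comm, mul_assoc, mul_assoc] at e1
            omega
        have e3 : C ≤ om C := fun c hc => ⟨hc, cent_anti (e2.trans (om_le K)) (e2 hc).2.1,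
          (e2 hc).2.2⟩
        obtain ⟨q, hq, q0⟩ := SetLike.not_le_iff_exists.1
          (fun k => by rw [relIndex_eq_one.2 k] at C2; omega : ¬ Q ⊓ 𝒞[u] ≤ C)
        have qn : Q ⊓ 𝒞[u] ≤ 𝒩(C) := (normal_subgroupOf_iff_le_normalizer
          (hC ▸ inf_le_left)).1 (normal_of_index_eq_two C2)
        have e4 := card_le_sq e3 (qn hq) (e3 (sq_mem_of_two C2 hq)).2.1
        have e5 : C ⊓ 𝒞[q] ≤ zpowers z ⊔ zpowers u := fun c hc => dQ.om_le
          ⟨(hC ▸ hc.1).1, le_cent1_iff.1 fun r hr => by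
            by_cases k : r ∈ C
            · exact le_cent1_iff.2 (e3 hc.1).2.1 k
            · simpa using (𝒞[c]).mul_mem (mem_cent1_comm.1 hc.2)
                (le_cent1_iff.2 (e3 hc.1).2.1 (inv_mul_mem_of_two C2 hq hr q0 k)), (e3 hc.1).2.2⟩
        have e6 := card_le_of_le e5
        rw [dQ.four.card] at e6
        exact e4.trans (Nat.mul_le_mul e6 e6)
    · have yz' : y ∉ 𝒞[z] := fun k => u0 (by
        rw [conj_eq_iff.2 k] at yz
        simpa using mul_mem (inv_mem (mem_zpowers z)) yz)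
      have e1 : 𝒞[z] ⊓ 𝒩((S : Subgroup G) ⊓ 𝒞[u]) = S := by
        have k1 : (S : Subgroup G) ≤ 𝒞[z] ⊓ 𝒩((S : Subgroup G) ⊓ 𝒞[u]) := le_inf b.cen dS.normT
        have k2 := relIndex_mul_relIndex _ _ _ k1 inf_le_left
        rw [h3] at k2
        rcases (Nat.dvd_prime pr3).1 (Dvd.intro _ k2) with k | k
        · exact le_antisymm (relIndex_eq_one.1 k) k1
        · rw [k] at k2
          have k3 := relIndex_dvd_of_le_left S (star _ inf_le_left
            ((relIndex_eq_one.1 (by omega) : 𝒞[z] ≤ 𝒞[z] ⊓ _) xH).2 yn)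
          rw [C8, dS.idx] at k3
          omega
      have s2 := syl.sub dS.normT le_top
      have e2 : (S : Subgroup G).relIndex 𝒩((S : Subgroup G) ⊓ 𝒞[u]) = 3 := by
        have k1 := H50.relIndex_cent1_le (P := 𝒩((S : Subgroup G) ⊓ 𝒞[u])) (g := z)
          (Z := zpowers z ⊔ zpowers u) fun g hg => mul_mem
            (dS.om_le (conj_mem_of_norm (norm_om _) hg dS.zT)) (inv_mem (mem_sup_left (mem_zpowers z)))
        have k2 := ((sylowOf_iff pr2).1 s2).2.2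
        have k3 : (S : Subgroup G).relIndex 𝒩((S : Subgroup G) ⊓ 𝒞[u]) ≠ 1 := fun k =>
          yz' (b.cen (relIndex_eq_one.1 k yn))
        rw [dS.four.card, ← inf_relIndex_right, e1] at k1
        omega
      obtain ⟨-, j2⟩ := iso_s3 s2 e2 inf_le_left dS.idx le_rfl fun k => yz' (norm_zp af.oz ▸
        (le_antisymm h0 (zpowers_le.2 b.zom) ▸ norm_om _ (k yn) : y ∈ 𝒩(zpowers z)))
      obtain ⟨P1, p1⟩ := exists_sylow_of_top pr2 ((hall_subgroupOf_top b.cen).2 (syl.sub b.cen le_top))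
      obtain ⟨P2, p2⟩ := exists_sylow_of_top pr2 ((hall_subgroupOf_top dS.normT).2 s2)
      have := S2751.result _ _ ⟨P1, by rw [e1, p1]⟩ ⟨P2, by rw [e1, p2]⟩ ⟨i2⟩ j2 fun N k1 k2 k3 => by
        by_contra k
        exact hK ⟨N, e1 ▸ k1, (normal_subgroupOf_iff_le_normalizer (k1.trans inf_le_left)).1 k2,
          (normal_subgroupOf_iff_le_normalizer (k1.trans inf_le_right)).1 k3 yn, k⟩
      rw [e1, ← card_mul_relIndex (CQ.trans b.le), C8] at this
      omega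
  rw [← hC] at hV
  have c8 : Nat.card C = 8 := by
    obtain ⟨n, hn⟩ := (IsPGroup.iff_card.1 (af.two.to_le CQ))
    have e1 := card_le_of_le hV.le
    have e2 := (af.of_le CQ zC xC).mod
    rw [hV.card] at e1
    rw [hn] at e1 e2 C16 ⊢
    have : n < 5 := (Nat.pow_lt_pow_iff_right (by norm_num : 1 < 2)).1 (by omega)
    interval_cases n <;> omega
  have c32 : Nat.card Q = 32 := by rw [← card_mul_relIndex CQ, c8, C4]
  have cm := fun g a => af.comm_of_four (g := g) (a := a) CQ zC C4 (by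
    have k : ∀ t (ht : t ∈ Q), (∀ r ∈ Q, r * t * r⁻¹ * t⁻¹ ∈ zpowers z) →
        zpowers t ≤ quoPre _ 𝒞(quo Q (zpowers z)) := fun t ht k => zpowers_le.2 (mem_quoPre.2
      ⟨af.leN ht, by rintro _ ⟨r, hr, rfl⟩; exact coset_comm_iff.2 (k r hr)⟩)
    rw [quo_le_iff (CQ.trans af.leN), ← eq_of_le_of_card_eq hV.le (hV.card.trans c8.symm)]
    exact sup_le (sup_le (le_quoPre _) (k u hu dQ.uc)) (k _ dV.um dV.uc))
  have ctr := af.center (b.omQ h0)
  have ex : IsExtraspecial 2 Q := H57.isExtraspecial_of_hom Q.subtype (subtype_injective Q)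
    (range_subtype Q) (e := 5) c32 af.mem (ne_of af.oz)
    (fun g hg => ⟨fun k => (mem_zp af.oz).1 (ctr ⟨hg, k⟩), by
      rintro (rfl | rfl) a ha
      exacts [by simp, mem_cent1.1 (af.cen ha)]⟩)
    (fun g hg => (mem_zp af.oz).1 (ctr ⟨pow_mem hg 2, fun a ha => by
      rw [← mul_inv_eq_iff_eq_mul, sq, show a * (g * g) * a⁻¹ = a * g * a⁻¹ * (a * g * a⁻¹) by group]
      rcases cj_cases af.oz (cm g a hg ha) with e | e <;> rw [e]
      calc _ = z * (g * z) * g := by group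
        _ = (z * z) * (g * g) := by rw [mem_cent1.1 (af.cen hg)]; group
        _ = _ := by rw [af.zz, one_mul]⟩))
    (dQ.exists_out.imp fun a ha => ⟨ha.1, u, hu, fun k => ha.2 (mem_cent1.2 k)⟩)
  obtain ⟨X, hX⟩ := exists_sylow_of (P := zpowers x) (M := 𝒞[z]) pr3 ((sylowOf_iff pr3).2
    ⟨zpowers_le.2 xH, IsPGroup.of_card (n := 1) (by rw [Nat.card_zpowers, af.ox, pow_one]), by
      have e1 := card_mul_relIndex (zpowers_le.2 xH)
      have e2 := card_mul_relIndex b.cen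
      have e3 := b.card
      rw [Nat.card_zpowers, af.ox] at e1
      rw [h3] at e2
      omega⟩)
  obtain ⟨c, hc⟩ := isConj_iff.1 (h.one z u af.oz dS.ou)
  rcases S3344.result z af.oz _ rfl Q i1 ex c32 i2 X (by
      rw [hX, cent_zpowers]
      exact le_antisymm (fun a ha => (mem_zp af.oz).2 (af.fix a ha.1 (mem_cent1.1 ha.2)))
        (zpowers_le.2 ⟨af.mem, mem_cent1.2 af.zx⟩))
    ⟨c, hc ▸ hu, fun e => u0 (by rw [← hc, e]; exact mem_zpowers z)⟩ with ⟨N, hN, -, k1, k2, -⟩ | ⟨⟨e⟩⟩ | ⟨⟨e⟩⟩ | ⟨⟨e⟩⟩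
  · rcases hN.eq_bot_or_eq_top with rfl | rfl
    · simp at k2
    · have := orderOf_dvd_of_pow_eq_one (k1 x (mem_top x))
      rw [af.ox] at this
      omega
  · exact h.not23 (has23_alt8.of_injective e.symm.toMonoidHom e.symm.injective)
  · exact h.not23 (has23_alt9.of_injective e.symm.toMonoidHom e.symm.injective)
  · obtain ⟨a, b, ha, hb, k⟩ := two_classes_m12
    have := e.toMonoidHom.map_isConj (h.one (e.symm a) (e.symm b) (by rwa [MulEquiv.orderOf_eq])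
      (by rwa [MulEquiv.orderOf_eq]))
    exact k (by simpa using this)

end Cfsg.Agent.SC6
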