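import Cfsg.Agent.SC6.U

/-!
The case `C(z)/O₂(C(z))` of symmetric type: the centre of a Sylow 2-subgroup.
-/

set_option autoImplicit false
set_option linter.unusedSectionVars false

namespace Cfsg.Agent.SC6

open Cfsg Cfsg.Agent.H49 Cfsg.Agent.NO6 Subgroup

universe u

variable {G : Type u} [Group G] [Finite G] {x y z a b g u s s' w : G} {Q Q' S : Subgroup G}

/-- `S = Q⟨s⟩` with `s` inverting `x`. -/
structure BL (S : Subgroup G) (z x s : G) (Q : Subgroup G) : Prop where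
  af : AF z x Q
  two : IsPGroup 2 S
  le : Q ≤ S
  idx : Q.relIndex S = 2
  cen : S ≤ 𝒞[z]
  sm : s ∈ S
  s0 : s ∉ Q
  inv : s * x * s⁻¹ = x⁻¹

/-- The product of the three conjugates. -/
def tr (x w : G) : G := w * (x * w * x⁻¹) * (x⁻¹ * w * x)

theorem AF.tr_mul (h : AF z x Q) (ha : a ∈ NO6.om Q) (hb : b ∈ NO6.om Q) :
    tr x (a * b) = tr x a * tr x b := by
  have h1 := hb.2.1 _ (h.conj_mem ha.1)
  have h2 := hb.2.1 _ (h.conj_mem' ha.1)
  have h3 := (h.om.conj_mem hb).2.1 _ (h.conj_mem' ha.1)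
  unfold tr
  calc _ = a * (b * (x * a * x⁻¹)) * (x * b * x⁻¹ * (x⁻¹ * a * x)) * (x⁻¹ * b * x) := by group
    _ = a * (x * a * x⁻¹) * (b * (x⁻¹ * a * x)) * (x * b * x⁻¹) * (x⁻¹ * b * x) := by
      rw [← h1, ← h3]; group
    _ = _ := by rw [← h2]; group

theorem AF.tr_z (h : AF z x Q) : tr x z = z := by
  have e : x * z * x⁻¹ = z := by rw [← h.zx]; group
  have e' : x⁻¹ * z * x = z := by rw [mul_assoc, h.zx]; group
  rw [tr, e, e', h.zz, one_mul]

namespace BL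

theorem norm (h : BL S z x s Q) : S ≤ 𝒩(Q) :=
  (normal_subgroupOf_iff_le_normalizer h.le).1 (normal_of_index_eq_two h.idx)

theorem leN (h : BL S z x s Q) : S ≤ 𝒩(zpowers z) := (norm_zp h.af.oz).symm ▸ h.cen

theorem conj_in (h : BL S z x s Q) (hg : g ∈ Q) : ∃ q ∈ Q, g * x * g⁻¹ = q * x :=
  ⟨g * (x * g⁻¹ * x⁻¹), mul_mem hg (h.af.conj_mem (inv_mem hg)), by group⟩

theorem conj_out (h : BL S z x s Q) (hg : g ∈ S) (h0 : g ∉ Q) : ∃ q ∈ Q, g * x * g⁻¹ = q * x⁻¹ := by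
  obtain ⟨q, hq, e⟩ := h.conj_in (inv_mul_mem_of_two h.idx h.sm hg h.s0 h0)
  refine ⟨s * q * s⁻¹, conj_mem_of_norm h.norm h.sm hq, ?_⟩
  calc _ = s * (s⁻¹ * g * x * (s⁻¹ * g)⁻¹) * s⁻¹ := by group
    _ = s * q * s⁻¹ * (s * x * s⁻¹) := by rw [e]; group
    _ = _ := by rw [h.inv]

theorem conj_x (h : BL S z x s Q) :
    ∀ g ∈ S, ∃ q ∈ Q, g * x * g⁻¹ = q * x ∨ g * x * g⁻¹ = q * x⁻¹ := fun g hg => by
  by_cases k : g ∈ Q
  · exact (h.conj_in k).imp fun _ e => ⟨e.1, Or.inl e.2⟩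
  · exact (h.conj_out hg k).imp fun _ e => ⟨e.1, Or.inr e.2⟩

theorem card (h : BL S z x s Q) : Nat.card Q * 2 = Nat.card S := h.idx ▸ card_mul_relIndex h.le

theorem not_le (h : BL S z x s Q) (h4 : 4 < Nat.card S) : ¬ Q ≤ zpowers z := fun k => by
  have h1 := card_le_of_le k
  have h2 := h.card
  rw [Nat.card_zpowers, h.af.oz] at h1
  omega

theorem mem_of_comm (h : BL S z x s Q) (h4 : 4 < Nat.card S) (ha : a ∈ S)
    (hc : ∀ r ∈ Q, r * a * r⁻¹ * a⁻¹ ∈ zpowers z) : a ∈ Q := by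
  by_contra h0
  obtain ⟨q, hq, e⟩ := h.conj_out ha h0
  have e' : q * x = a * (x * a⁻¹ * x⁻¹) := by
    calc _ = q * x⁻¹ * (x * x) := by group
      _ = _ := by rw [← e, h.af.xx]; group
  refine h.not_le h4 fun r hr => h.af.fixc hq hr ?_
  have h1 := conj_mem_of_norm' h.norm ha (h.af.conj_mem' hr)
  have := mul_mem (inv_mem (hc _ (h.af.conj_mem h1))) (conj_mem_of_norm le_rfl h.af.xN (hc _ h1))
  rw [e']
  convert this using 1
  group

theorem om_le (h : BL S z x s Q) (h4 : 4 < Nat.card S) : om S ≤ om Q := fun a ha =>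
  ⟨h.mem_of_comm h4 ha.1 fun r hr => by rw [ha.2.1 r (h.le hr)]; simp,
    cent_anti h.le ha.2.1, ha.2.2⟩

theorem conj_om (h : BL S z x s Q) (hw : w ∈ om Q) (hg : g ∈ S) (h0 : g ∉ Q) :
    g * w * g⁻¹ = s * w * s⁻¹ := by
  have := hw.2.1 _ (inv_mul_mem_of_two h.idx h.sm hg h.s0 h0)
  calc _ = s * (s⁻¹ * g * w) * g⁻¹ := by group
    _ = _ := by rw [this]; group

theorem tr_conj (h : BL S z x s Q) (hw : w ∈ om Q) : tr x (s * w * s⁻¹) = tr x w := by
  have h1 := (h.af.om.conj_mem hw).2.1 _ (h.af.conj_mem' hw.1)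
  have h2 : s ∈ 𝒞[tr x w] :=
    mem_cent1_comm.1 (cent_symm (A := zpowers s) (X := zpowers z)
      (zpowers_le.2 (cent_zpowers z ▸ h.cen h.sm)) (h.af.prod hw.1) s (mem_zpowers s) |>.symm
      |> mem_cent1.2)
  have e1 : x = s * x⁻¹ * s⁻¹ := by rw [← conj_inv, h.inv, inv_inv]
  rw [← conj_eq_iff.2 h2]
  unfold tr
  calc _ = s * w * s⁻¹ * (s * x⁻¹ * s⁻¹ * (s * w * s⁻¹) * (s * x * s⁻¹)) *
      (s * x * s⁻¹ * (s * w * s⁻¹) * (s * x⁻¹ * s⁻¹)) := by rw [← e1, h.inv]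
    _ = s * (w * (x⁻¹ * w * x * (x * w * x⁻¹))) * s⁻¹ := by group
    _ = _ := by rw [h1]; group

theorem w_out (h : BL S z x s Q) (h4 : 4 < Nat.card S) (hu : u ∈ om S) (t : tr x u = 1)
    (hg : g ∈ S) (h0 : g ∉ Q) : g * (x * u * x⁻¹) * g⁻¹ = u * (x * u * x⁻¹) := by
  have hu' := h.om_le h4 hu
  have hw := h.af.om.conj_mem hu'
  rw [h.conj_om hw hg h0, ← inv_eq_of_sq (mul_mem hu' hw).2.2, ← eq_inv_of_mul_eq_one_right t]
  calc _ = s * x * s⁻¹ * (s * u * s⁻¹) * (s * x * s⁻¹)⁻¹ := by group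
    _ = _ := by rw [h.inv, hu.2.1 s h.sm]; group

theorem pair (h : BL S z x s Q) (h' : BL S u y s' Q') (h4 : 4 < Nat.card S) (hu : u ∈ om S)
    (t : tr x u = 1) (ha : a ∈ om S) (t' : tr y a = 1) : a ∈ zpowers z := by
  have u1 := ne_of h'.af.oz
  have hw := h.af.om.conj_mem (h.om_le h4 hu)
  have hw2 := h'.af.om.conj_mem (h'.om_le h4 ha)
  have wo := fun g => h.w_out (g := g) h4 hu t
  have wo2 := fun g => h'.w_out (g := g) h4 ha t'
  generalize x * u * x⁻¹ = w at hw wo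
  generalize y * a * y⁻¹ = w2 at hw2 wo2
  have h1 : w ∈ Q' := h'.mem_of_comm h4 (h.le hw.1) fun r hr => by
    by_cases k : r ∈ Q
    · rw [hw.2.1 r k]; simp
    · rw [wo r (h'.le hr) k]; simp
  have h2 : w2 ∈ Q := by
    by_contra k
    have := wo w2 (h'.le hw2.1) k
    rw [← hw2.2.1 w h1] at this
    exact u1 (by simpa using this.symm)
  have h3 := h.af.three h2 fun c hc d hd hc' hd' => le_cent1_iff.2 hw2.2.1
    (inv_mul_mem_of_two h'.idx (h.le hc) (h.le hd) (fun k => hc' (le_cent1_iff.2 hw2.2.1 k))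
      fun k => hd' (le_cent1_iff.2 hw2.2.1 k))
  by_cases k : Q ≤ Q'
  · exfalso
    obtain rfl : Q = Q' := eq_of_le_of_card_ge k (by have := h.card; have := h'.card; omega)
    have := h'.tr_conj hw
    rw [wo s' h'.sm h'.s0, h'.af.tr_mul h'.af.om.mem hw, h'.af.tr_z] at this
    exact u1 (by simpa using this)
  · obtain ⟨q, hq, hq'⟩ := SetLike.not_le_iff_exists.1 k
    have := h3 q hq
    rw [wo2 q (h.le hq) hq'] at this
    simpa using this

theorem exists_tr (h : BL S z x s Q) (h4 : 4 < Nat.card S) (ha : a ∈ om S) :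
    tr x a = 1 ∨ tr x (a * z) = 1 := by
  have ha' := h.om_le h4 ha
  refine ((mem_zp h.af.oz).1 (h.af.prod ha'.1)).imp id fun e => ?_
  rw [h.af.tr_mul ha' h.af.om.mem, h.af.tr_z, tr, e, h.af.zz]

theorem zom (h : BL S z x s Q) : z ∈ om S := ⟨h.le h.af.mem, le_cent1_iff.1 h.cen, h.af.zz⟩

theorem exists_tr' (h : BL S z x s Q) (h4 : 4 < Nat.card S) (h0 : ¬ om S ≤ zpowers z) :
    ∃ u ∈ om S, u ∉ zpowers z ∧ tr x u = 1 := by
  obtain ⟨a, ha, h1⟩ := SetLike.not_le_iff_exists.1 h0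
  rcases h.exists_tr h4 ha with e | e
  · exact ⟨a, ha, h1, e⟩
  · exact ⟨a * z, mul_mem ha h.zom, fun k => h1 (by
      simpa using mul_mem k (inv_mem (mem_zpowers z))), e⟩

theorem omQ (h : BL S z x s Q) (h0 : om S ≤ zpowers z) : om Q ≤ zpowers z := fun w hw => by
  have key : ∀ c ∈ om Q, s * c * s⁻¹ = c → c ∈ zpowers z := fun c hc e =>
    h0 ⟨h.le hc.1, le_cent1_iff.1 fun g hg => by
      by_cases k : g ∈ Q
      · exact le_cent1_iff.2 hc.2.1 k
      · exact conj_eq_iff.1 ((h.conj_om hc hg k).trans e), hc.2.2⟩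
  have h1 := conj_mem_of_norm (h.norm.trans (norm_om Q)) h.sm hw
  have h2 := key _ (mul_mem h1 hw) (by
    calc _ = s * s * w * (s * s)⁻¹ * (s * w * s⁻¹) := by group
      _ = _ := by
        rw [conj_eq_iff.2 (le_cent1_iff.2 hw.2.1 (sq_mem_of_two h.idx h.sm)), h1.2.1 w hw.1])
  rcases (mem_zp h.af.oz).1 h2 with e | e
  · exact key w hw (by rw [eq_inv_of_mul_eq_one_left e, inv_eq_of_sq hw.2.2])
  · have h3 := h.af.tr_mul h1 hw
    rw [e, h.af.tr_z, h.tr_conj hw] at h3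
    rcases (mem_zp (a := tr x w) h.af.oz).1 (h.af.prod hw.1) with e' | e' <;> rw [e'] at h3
    · exact absurd (by simpa using h3) (ne_of h.af.oz)
    · exact absurd (h3.trans h.af.zz) (ne_of h.af.oz)

end BL

theorem AF.center (h : AF z x Q) (h0 : NO6.om Q ≤ zpowers z) : Q ⊓ 𝒞(Q) ≤ zpowers z := by
  by_contra k
  obtain ⟨a, ha, a0, aa, -⟩ := exists_A (B := Q ⊓ 𝒞(Q)) h.oz h.two h.cen inf_le_left
    (norm_inf le_normalizer (norm_cent le_normalizer)) k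
  replace aa : a * a = z := ((mem_zp h.oz).1 aa).resolve_left fun e => a0 (h0 ⟨ha.1, ha.2, e⟩)
  have hb : x * a * x⁻¹ ∈ Q ⊓ 𝒞(Q) :=
    conj_mem_of_norm (norm_inf le_rfl (norm_cent le_rfl)) h.norm ha
  have bb : x * a * x⁻¹ * (x * a * x⁻¹) = z := by
    calc _ = x * (a * a) * x⁻¹ := by group
      _ = z := by rw [aa, ← h.zx]; group
  have h1 := mul_mem hb (inv_mem ha)
  refine a0 (h.fix1 ha.1 (h0 ⟨h1.1, h1.2, ?_⟩))
  generalize x * a * x⁻¹ = b at *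
  calc _ = b * (a⁻¹ * b) * a⁻¹ := by group
    _ = b * b * (a * a)⁻¹ := by rw [hb.2 _ (inv_mem ha.1)]; group
    _ = 1 := by rw [bb, aa, mul_inv_cancel]

/-- The centre of `S` has only one involution. -/
theorem om_le_of_bl (hB : ∀ a ∈ om S, a ≠ 1 → ∃ x s Q, BL S a x s Q) (h4 : 4 < Nat.card S)
    (hz : z ∈ om S) (z1 : z ≠ 1) : om S ≤ zpowers z := by
  by_contra h0
  obtain ⟨x, s, Q, h⟩ := hB z hz z1
  obtain ⟨u, hu, u0, t⟩ := h.exists_tr' h4 h0
  obtain ⟨y, s', Q', h'⟩ := hB u hu fun e => u0 (e ▸ one_mem _)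
  have oz := h.af.oz
  have ou := h'.af.oz
  have uz : u ≠ z := fun e => u0 (e ▸ mem_zpowers u)
  have c1 : u * z ≠ 1 := fun e => uz (by rw [eq_inv_of_mul_eq_one_left e, inv_eq_of_sq h.af.zz])
  obtain ⟨y', s'', Q'', h''⟩ := hB (u * z) (mul_mem hu hz) c1
  obtain ⟨u', hu', u0', t'⟩ := h''.exists_tr' h4 fun k => by
    rcases (mem_zp h''.af.oz).1 (k hz) with e | e
    · exact z1 e
    · exact ne_of ou (by simpa using e.symm)
  have k1 : u' = z ∨ u' = u := by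
    rcases h'.exists_tr h4 hu' with e | e
    · exact Or.inl (((mem_zp oz).1 (h.pair h' h4 hu t hu' e)).resolve_left
        fun e => u0' (e ▸ one_mem _))
    · rcases (mem_zp oz).1 (h.pair h' h4 hu t (mul_mem hu' hu) e) with e | e
      · exact Or.inr (by rw [eq_inv_of_mul_eq_one_left e, inv_eq_of_sq h'.af.zz])
      · refine (u0' ?_).elim
        rw [eq_mul_inv_of_mul_eq e, inv_eq_of_sq h'.af.zz, hu.2.1 z hz.1]
        exact mem_zpowers _
  rcases k1 with rfl | rfl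
  · rcases (mem_zp h''.af.oz).1 (h''.pair h h4 hu' t' hu t) with e | e
    · exact ne_of ou e
    · exact z1 (by simpa using e)
  · obtain ⟨a, ha, a0, ta⟩ := h'.exists_tr' h4 fun k =>
      ((mem_zp ou).1 (k hz)).elim z1 uz.symm
    rcases (mem_zp oz).1 (h.pair h' h4 hu t ha ta) with e | e
    · exact a0 (e ▸ one_mem _)
    · rcases (mem_zp h''.af.oz).1 (h''.pair h' h4 hu' t' ha ta) with e' | e'
      · exact a0 (e' ▸ one_mem _)
      · exact ne_of ou (by simpa [e] using e'.symm)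

end Cfsg.Agent.SC6
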