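import Cfsg.Agent.SC6.Defs

/-!
An element of order three acting on a 2-group with exactly one fixed involution.
-/

set_option autoImplicit false
set_option linter.unusedSectionVars false

namespace Cfsg.Agent.SC6

open Cfsg Cfsg.Agent.H49 Cfsg.Agent.NO6 Subgroup

universe u

variable {G : Type u} [Group G] [Finite G] {x y z a g : G} {Q K S B D : Subgroup G}

/-- `x` has order three, acts on the 2-group `Q` and fixes only the central involution `z`. -/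
structure AF (z x : G) (Q : Subgroup G) : Prop where
  two : IsPGroup 2 Q
  oz : orderOf z = 2
  ox : orderOf x = 3
  mem : z ∈ Q
  cen : Q ≤ 𝒞[z]
  norm : x ∈ 𝒩(Q)
  zx : z * x = x * z
  fix : ∀ a ∈ Q, a * x = x * a → a = 1 ∨ a = z

theorem pow_two_of (hQ : IsPGroup 2 Q) (ha : a ∈ Q) : ∃ n, a ^ 2 ^ n = 1 := by
  obtain ⟨n, hn⟩ := hQ ⟨a, ha⟩
  exact ⟨n, congrArg Subtype.val hn⟩

theorem Hyp.af (h : Hyp G) (two : IsPGroup 2 Q) (oz : orderOf z = 2) (ox : orderOf x = 3)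
    (mem : z ∈ Q) (cen : Q ≤ 𝒞[z]) (norm : x ∈ 𝒩(Q)) (zx : z * x = x * z) : AF z x Q :=
  ⟨two, oz, ox, mem, cen, norm, zx, fun _ ha c => (pow_two_of two ha).elim fun _ hn =>
    h.two oz ox zx (mem_cent1.1 (cen ha)) c hn⟩

theorem cube_of (h : orderOf x = 3) : x ^ 3 = 1 := orderOf_dvd_iff_pow_eq_one.1 h.dvd

theorem not_mem_two (hQ : IsPGroup 2 Q) (h : orderOf x = 3) : x ∉ Q := fun hx => by
  obtain ⟨n, hn⟩ := pow_two_of hQ hx
  have := (Nat.dvd_prime pr2).1 ((Nat.Prime.dvd_of_dvd_pow pr3 (h ▸ orderOf_dvd_of_pow_eq_one hn)))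
  omega

theorem zp_two (hz : orderOf z = 2) : IsPGroup 2 (zpowers z) :=
  IsPGroup.of_card (n := 1) (by rw [Nat.card_zpowers, hz, pow_one])

theorem quo_two (hQ : IsPGroup 2 Q) (N : Subgroup G) : IsPGroup 2 (quo Q N) :=
  (isPi_singleton_iff pr2).1 ((isPi_of_isPGroup pr2 hQ).quo N)

theorem coset_comm_iff {N : Subgroup G} {a b : ↥𝒩(N)} :
    coset N a * coset N b = coset N b * coset N a ↔ (a : G) * b * (a : G)⁻¹ * (b : G)⁻¹ ∈ N := by
  rw [← mul_inv_eq_one, mul_inv_rev, ← mul_assoc, ← map_inv, ← map_inv, ← map_mul, ← map_mul,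
    ← map_mul, coset_eq_one_iff]; rfl

namespace AF

theorem of_le (h : AF z x Q) (hK : K ≤ Q) (hz : z ∈ K) (hn : x ∈ 𝒩(K)) : AF z x K :=
  ⟨h.two.to_le hK, h.oz, h.ox, hz, hK.trans h.cen, hn, h.zx, fun a ha => h.fix a (hK ha)⟩

theorem inv (h : AF z x Q) : AF z x⁻¹ Q :=
  ⟨h.two, h.oz, by rw [orderOf_inv, h.ox], h.mem, h.cen, inv_mem h.norm,
    Commute.inv_right h.zx, fun a ha c => h.fix a ha (Commute.inv_right_iff.1 c)⟩

theorem zz (h : AF z x Q) : z * z = 1 := sq_of h.oz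

theorem xx (h : AF z x Q) : x * x = x⁻¹ :=
  (inv_eq_of_mul_eq_one_right (by rw [← cube_of h.ox, pow_three])).symm

theorem conj_mem (h : AF z x Q) (ha : a ∈ Q) : x * a * x⁻¹ ∈ Q :=
  conj_mem_of_norm le_rfl h.norm ha

theorem conj_mem' (h : AF z x Q) (ha : a ∈ Q) : x⁻¹ * a * x ∈ Q :=
  conj_mem_of_norm' le_rfl h.norm ha

theorem leN (h : AF z x Q) : Q ≤ 𝒩(zpowers z) := (norm_zp h.oz).symm ▸ h.cen

theorem xN (h : AF z x Q) : x ∈ 𝒩(zpowers z) := (norm_zp h.oz).symm ▸ mem_cent1.2 h.zx.symm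

theorem om (h : AF z x Q) : AF z x (om Q) :=
  h.of_le (om_le Q) ⟨h.mem, le_cent1_iff.1 h.cen, h.zz⟩ (norm_om Q h.norm)

theorem fp (h : AF z x Q) : FP (coset _ ⟨x, h.xN⟩) (quo Q (zpowers z)) := by
  refine ⟨?_, quo_two h.two _, orderOf_eq_prime ?_ fun e => ?_, ?_⟩
  · rintro _ ⟨a, ha, rfl⟩ c
    rw [coset_eq_one_iff, mem_zp h.oz]
    rcases (mem_zp h.oz).1 (coset_comm_iff.1 c) with e | e
    · refine h.fix a ha ?_
      rw [mul_inv_eq_one, mul_inv_eq_iff_eq_mul] at e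
      exact e
    · exfalso
      have e1 : (a : G) * x * (a : G)⁻¹ = z * x := mul_inv_eq_iff_eq_mul.1 e
      have e2 : ((a : G) * x * (a : G)⁻¹) ^ 3 = 1 := by rw [conj_pow, cube_of h.ox]; group
      rw [e1, Commute.mul_pow h.zx, cube_of h.ox, mul_one, pow_three, h.zz, mul_one] at e2
      exact ne_of h.oz e2
  · rw [← map_pow, coset_eq_one_iff, SubmonoidClass.coe_pow, cube_of h.ox]
    exact one_mem _
  · exact not_mem_two (zp_two h.oz) h.ox (coset_eq_one_iff.1 e)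
  · exact quo_norm _ (zpowers_le.2 h.norm) (coset_mem_quo (mem_zpowers x))

theorem fixc (h : AF z x Q) {q : G} (hq : q ∈ Q) (ha : a ∈ Q)
    (c : q * x * a * (q * x)⁻¹ * a⁻¹ ∈ zpowers z) : a ∈ zpowers z := by
  have h1 := (h.fp.coset (coset_mem_quo (x := ⟨q, h.leN hq⟩) hq)).fix _
    (coset_mem_quo (x := ⟨a, h.leN ha⟩) ha) (by
      rw [← map_mul (coset _) ⟨q, _⟩]
      exact (coset_comm_iff.2 c).symm)
  exact coset_eq_one_iff.1 h1

theorem fix1 (h : AF z x Q) (ha : a ∈ Q) (c : x * a * x⁻¹ * a⁻¹ ∈ zpowers z) : a ∈ zpowers z :=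
  h.fixc (one_mem _) ha (by rwa [one_mul])

theorem prod (h : AF z x Q) (ha : a ∈ Q) : a * (x * a * x⁻¹) * (x⁻¹ * a * x) ∈ zpowers z := by
  have h1 := h.fp.prod (coset_mem_quo (x := ⟨a, h.leN ha⟩) ha)
  simp only [← map_inv, ← map_mul] at h1
  exact coset_eq_one_iff.1 h1

theorem mod (h : AF z x Q) : Nat.card Q % 3 = 2 := by
  have h1 := h.fp.mod
  have h2 := card_mul_card_quo (zpowers_le.2 h.mem) h.leN
  rw [Nat.card_zpowers, h.oz] at h2
  omega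

/-- An element with a centralizer of index at most two is central modulo `z`. -/
theorem three (h : AF z x Q) (hg : g ∈ Q)
    (h2 : ∀ a ∈ Q, ∀ b ∈ Q, a ∉ 𝒞[g] → b ∉ 𝒞[g] → a⁻¹ * b ∈ 𝒞[g]) :
    ∀ q ∈ Q, q * g * q⁻¹ * g⁻¹ ∈ zpowers z := fun q hq => by
  by_contra hc
  have key : ∀ a : ↥𝒩(zpowers z), (a : G) ∈ 𝒞[g] →
      coset _ a ∈ 𝒞[coset (zpowers z) ⟨g, h.leN hg⟩] := fun a ha =>
    mem_cent1.2 (coset_comm_iff.2 (by
      show (a : G) * g * (a : G)⁻¹ * g⁻¹ ∈ _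
      rw [mem_cent1.1 ha]; simp))
  have hq' : coset _ ⟨q, h.leN hq⟩ ∉ 𝒞[coset (zpowers z) ⟨g, h.leN hg⟩] := fun k =>
    hc (coset_comm_iff.1 (mem_cent1.1 k))
  refine h.fp.relIndex_ne_two inf_le_left
    (h.fp.norm_cent1 (coset_mem_quo (x := ⟨g, h.leN hg⟩) hg))
    (relIndex_eq_two_of (coset_mem_quo (x := ⟨q, h.leN hq⟩) hq) (fun k => hq' k.2) ?_)
  rintro _ ⟨e, he, rfl⟩
  by_cases k : (e : G) ∈ 𝒞[g]
  · exact Or.inl ⟨coset_mem_quo he, key e k⟩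
  · refine Or.inr ?_
    rw [← map_inv, ← map_mul]
    exact ⟨coset_mem_quo (mul_mem (inv_mem hq) he), key _ (h2 q hq e he (fun k' => hq' (key _ k')) k)⟩

end AF

/-- A normal subgroup properly containing `⟨z⟩` has an element central of order two modulo `z`. -/
theorem exists_A (hz : orderOf z = 2) (hS : IsPGroup 2 S) (hc : S ≤ 𝒞[z]) (hB : B ≤ S)
    (hn : S ≤ 𝒩(B)) (h0 : ¬ B ≤ zpowers z) :
    ∃ a ∈ B, a ∉ zpowers z ∧ a * a ∈ zpowers z ∧ ∀ s ∈ S, s * a * s⁻¹ * a⁻¹ ∈ zpowers z := by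
  have hN : S ≤ 𝒩(zpowers z) := (norm_zp hz).symm ▸ hc
  have h1 := inf_center_ne_bot_of_nilpotent (isPi_of_isPGroup pr2 (quo_two hS (zpowers z))).nilpotent
    (quo_mono _ hB) (quo_norm _ hn) fun e => h0 ((quo_eq_bot_iff (hB.trans hN)).1 e)
  obtain ⟨_, ⟨⟨a, ha, rfl⟩, ha2⟩, h2, h3⟩ := exists_invol
    ((quo_two (hS.to_le hB) (zpowers z)).to_le inf_le_left) h1
  refine ⟨a, ha, fun k => h2 (coset_eq_one_iff.2 k), ?_, fun s hs => ?_⟩
  · rw [← map_mul] at h3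
    exact coset_eq_one_iff.1 h3
  · exact coset_comm_iff.1 (ha2 _ (coset_mem_quo (x := ⟨s, hN hs⟩) hs))

/-- An element of order three acting on a 2-group has no fixed points or the order is `2` modulo
three. -/
theorem Hyp.fp_or (h : Hyp G) (hD : IsPGroup 2 D) (hy : orderOf y = 3) (hn : y ∈ 𝒩(D)) :
    FP y D ∨ Nat.card D % 3 = 2 := by
  by_cases h0 : D ⊓ 𝒞[y] = ⊥
  · exact Or.inl ⟨fun a ha c => mem_bot.1 (h0 ▸ (⟨ha, mem_cent1.2 c⟩ : a ∈ D ⊓ 𝒞[y])), hD, hy, hn⟩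
  obtain ⟨v, hv, h1⟩ := ne_bot_iff_exists.1 (om_ne_bot (hD.to_le inf_le_left) h0)
  have ov := ord2 h1 hv.2.2
  have vy := mem_cent1.1 hv.1.2
  have := H48.card_dvd_sub_of_free (A := zpowers y) (M := D) (N := zpowers v)
    (zpowers_le.2 hv.1.1) (zpowers_le.2 hn)
    (zpowers_le.2 ((norm_zp ov).symm ▸ mem_cent1.2 vy.symm)) fun g hg g1 a ha hc => by
      have e : zpowers g = zpowers y := (eq_bot_or_eq_of_prime_card
        (by rw [Nat.card_zpowers, hy]; exact pr3) (zpowers_le.2 hg)).resolve_left (by simpa)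
      obtain ⟨k, rfl⟩ : y ∈ zpowers g := e ▸ mem_zpowers y
      have c : a * g ^ k = g ^ k * a := Commute.zpow_right hc.symm k
      obtain ⟨n, hn⟩ := pow_two_of hD ha
      exact (mem_zp ov).2 (h.two ov hy vy (hv.2.1 a ⟨ha, mem_cent1.2 c⟩) c hn)
  rw [Nat.card_zpowers, Nat.card_zpowers, hy, ov] at this
  have h2 := card_le_of_le (zpowers_le.2 hv.1.1 : zpowers v ≤ D)
  rw [Nat.card_zpowers, ov] at h2
  omega

end Cfsg.Agent.SC6
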