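import Cfsg.Agent.NO6.Fp

/-!
Simple groups with one class of involutions and a self-centralizing element of order six:
the standing hypotheses.
-/

set_option autoImplicit false
set_option linter.unusedSectionVars false

namespace Cfsg.Agent.SC6

open Cfsg Cfsg.Agent.H49 Cfsg.Agent.NO6 Subgroup

universe u

/-- The standing hypotheses. -/
structure Hyp (G : Type*) [Group G] : Prop where
  one : ∀ a b : G, orderOf a = 2 → orderOf b = 2 → IsConj a b
  six : ∀ v y g : G, orderOf v = 2 → orderOf y = 3 → v * y = y * v → g * v = v * g →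
    g * y = y * g → g ∈ zpowers (v * y)
  four : ∃ a b : G, orderOf a = 2 ∧ orderOf b = 2 ∧ a ≠ b ∧ a * b = b * a
  three : ∀ v : G, orderOf v = 2 → ∃ y : G, orderOf y = 3 ∧ v * y = y * v

/-- There is a subgroup `2² × 3`. -/
def Has23 (G : Type*) [Group G] : Prop :=
  ∃ a b y : G, orderOf a = 2 ∧ orderOf b = 2 ∧ a ≠ b ∧ orderOf y = 3 ∧ a * b = b * a ∧
    a * y = y * a ∧ b * y = y * b

variable {G : Type u} [Group G] [Finite G] {v y g z a : G}

theorem ord2 (h1 : a ≠ 1) (h2 : a * a = 1) : orderOf a = 2 :=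
  orderOf_eq_prime (by rw [sq, h2]) h1

theorem sq_of (h : orderOf a = 2) : a * a = 1 := by rw [← sq, ← h, pow_orderOf_eq_one]

theorem ne_of (h : orderOf a = 2) : a ≠ 1 := fun e => by simp [e] at h

theorem mem_zp (h : orderOf z = 2) : a ∈ zpowers z ↔ a = 1 ∨ a = z := by
  refine ⟨fun ha => ?_, ?_⟩
  · obtain ⟨k, rfl⟩ := (mem_powers_iff_mem_zpowers.2 ha : a ∈ Submonoid.powers z)
    have e : z ^ k = z ^ (k % 2) := by rw [← h, pow_mod_orderOf]
    rcases Nat.mod_two_eq_zero_or_one k with h0 | h0 <;> simp [e, h0]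
  · rintro (rfl | rfl)
    exacts [one_mem _, mem_zpowers _]

/-- The elements commuting with `v` and `y`. -/
theorem Hyp.six' (h : Hyp G) (hv : orderOf v = 2) (hy : orderOf y = 3) (c : v * y = y * v)
    (c1 : g * v = v * g) (c2 : g * y = y * g) :
    ∃ i j : ℕ, g = v ^ i * y ^ j := by
  obtain ⟨k, hk⟩ := (mem_powers_iff_mem_zpowers.2 (h.six v y g hv hy c c1 c2) :
    g ∈ Submonoid.powers (v * y))
  exact ⟨k, k, by rw [← hk]; exact Commute.mul_pow c k⟩

/-- A 2-element commuting with `v` and `y` is `1` or `v`. -/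
theorem Hyp.two (h : Hyp G) (hv : orderOf v = 2) (hy : orderOf y = 3) (c : v * y = y * v)
    (c1 : g * v = v * g) (c2 : g * y = y * g) {n : ℕ} (hg : g ^ 2 ^ n = 1) : g = 1 ∨ g = v := by
  obtain ⟨i, j, rfl⟩ := h.six' hv hy c c1 c2
  have c' : Commute (v ^ i) (y ^ j) := Commute.pow_pow c i j
  have h1 : (y ^ j) ^ 2 ^ (n + 1) = 1 := by
    have : (v ^ i * y ^ j) ^ 2 ^ (n + 1) = 1 := by rw [pow_succ, pow_mul, hg, one_pow]
    rwa [c'.mul_pow, ← pow_mul v, pow_succ', mul_left_comm, pow_mul, ← hv, pow_orderOf_eq_one,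
      one_pow, one_mul, hv, ← pow_succ'] at this
  have h2 : (y ^ j) ^ 3 = 1 := by rw [← pow_mul, mul_comm, pow_mul, ← hy, pow_orderOf_eq_one, one_pow]
  have h3 : y ^ j = 1 := orderOf_eq_one_iff.1 (Nat.eq_one_of_dvd_coprimes
    (Nat.Coprime.pow_left (n + 1) (by norm_num : Nat.Coprime 2 3)) (orderOf_dvd_of_pow_eq_one h1)
    (orderOf_dvd_of_pow_eq_one h2))
  rw [h3, mul_one]
  exact (mem_zp hv).1 (pow_mem (mem_zpowers v) i)

/-- An element of odd order commuting with `v` and `y` is a power of `y`. -/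
theorem Hyp.odd (h : Hyp G) (hv : orderOf v = 2) (hy : orderOf y = 3) (c : v * y = y * v)
    (c1 : g * v = v * g) (c2 : g * y = y * g) (hg : Odd (orderOf g)) : g ∈ zpowers y := by
  obtain ⟨i, j, e⟩ := h.six' hv hy c c1 c2
  have c' : Commute (v ^ i) (y ^ j) := Commute.pow_pow c i j
  have h1 : g ^ 2 ∈ zpowers y := by
    rw [e, c'.mul_pow, ← pow_mul v, mul_comm i, pow_mul, ← hv, pow_orderOf_eq_one, one_pow, one_mul]
    exact pow_mem (pow_mem (mem_zpowers y) _) _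
  obtain ⟨k, hk⟩ := hg
  have : g = (g ^ 2) ^ (k + 1) := by
    rw [← pow_mul, show 2 * (k + 1) = 2 * k + 1 + 1 by ring, ← hk, pow_succ, pow_orderOf_eq_one,
      one_mul]
  exact this ▸ pow_mem h1 _

/-- A 3-element commuting with an involution has order dividing three. -/
theorem Hyp.cube (h : Hyp G) (hv : orderOf v = 2) (c : g * v = v * g) {n : ℕ}
    (hg : g ^ 3 ^ n = 1) : g ^ 3 = 1 := by
  by_cases h1 : g = 1
  · simp [h1]
  obtain ⟨k, -, hk⟩ := (Nat.dvd_prime_pow pr3).1 (orderOf_dvd_of_pow_eq_one hg)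
  obtain ⟨m, rfl⟩ : ∃ m, k = m + 1 := Nat.exists_eq_succ_of_ne_zero fun e =>
    h1 (orderOf_eq_one_iff.1 (by rw [hk, e, pow_zero]))
  have hy : orderOf (g ^ 3 ^ m) = 3 := by
    rw [orderOf_pow_of_dvd (by positivity) (hk ▸ pow_dvd_pow 3 m.le_succ), hk, pow_succ,
      Nat.mul_div_cancel_left _ (by positivity)]
  obtain ⟨j, hj⟩ := h.odd (g := g) hv hy (Commute.pow_right c.symm _) c
    (Commute.pow_right (Commute.refl g) _) (hk ▸ Odd.pow (by decide))
  have : (g ^ 3 ^ m) ^ 3 = 1 := orderOf_dvd_iff_pow_eq_one.1 hy.dvd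
  calc g ^ 3 = ((g ^ 3 ^ m) ^ j) ^ 3 := congrArg (· ^ 3) hj.symm
    _ = ((g ^ 3 ^ m) ^ 3) ^ j := by rw [← zpow_natCast, ← zpow_mul, mul_comm, zpow_mul, zpow_natCast]
    _ = 1 := by rw [this, one_zpow]

theorem Hyp.not23 (h : Hyp G) : ¬ Has23 G := by
  rintro ⟨a, b, y, ha, hb, hab, hy, c1, c2, c3⟩
  rcases h.two (g := b) (n := 1) ha hy c2 c1.symm c3 (by rw [pow_one, sq, sq_of hb]) with e | e
  exacts [ne_of hb e, hab e.symm]

theorem Has23.of_injective {K : Type*} [Group K] (h : Has23 K) (f : K →* G)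
    (hf : Function.Injective f) : Has23 G := by
  obtain ⟨a, b, y, ha, hb, hab, hy, c1, c2, c3⟩ := h
  exact ⟨f a, f b, f y, by rwa [orderOf_injective f hf], by rwa [orderOf_injective f hf],
    fun e => hab (hf e), by rwa [orderOf_injective f hf], by rw [← map_mul, c1, map_mul],
    by rw [← map_mul, c2, map_mul], by rw [← map_mul, c3, map_mul]⟩

/-- Every involution is central in some Sylow 2-subgroup. -/
theorem Hyp.central (h : Hyp G) (hz : orderOf z = 2) :
    ∃ S : Sylow 2 G, z ∈ (S : Subgroup G) ∧ (S : Subgroup G) ≤ 𝒞[z] := by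
  obtain ⟨S, hS⟩ := (IsPGroup.of_card (n := 1) (by rw [Nat.card_zpowers, hz, pow_one]) :
    IsPGroup 2 (zpowers z)).exists_le_sylow
  have h0 : (S : Subgroup G) ≠ ⊥ := fun e => ne_of hz (mem_bot.1 (e ▸ hS (mem_zpowers z)))
  obtain ⟨a, ha, h1⟩ := ne_bot_iff_exists.1 (om_ne_bot S.isPGroup' h0)
  obtain ⟨c, hc⟩ := isConj_iff.1 (h.one a z (ord2 h1 ha.2.2) hz)
  refine ⟨c • S, ?_, ?_⟩
  · rw [← hc, Sylow.coe_subgroup_smul, ← cj_eq_smul]
    exact conj_mem_cj.2 ha.1
  · rw [← hc, Sylow.coe_subgroup_smul, ← cj_eq_smul, ← cj_cent1]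
    exact cj_mono _ (le_cent1_iff.2 ha.2.1)

theorem norm_zp (hz : orderOf z = 2) : 𝒩(zpowers z) = 𝒞[z] := by
  refine le_antisymm (fun g hg => ?_) (cent_zpowers z ▸ cent_le_norm _)
  rcases (mem_zp hz).1 (conj_mem_of_norm le_rfl hg (mem_zpowers z)) with e | e
  · exact absurd (by simpa using e) (ne_of hz)
  · exact mem_cent1.2 (mul_inv_eq_iff_eq_mul.1 e)

end Cfsg.Agent.SC6
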