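import Cfsg.Agent.SC6.AF
import Cfsg.Agent.H19.Nilp
import Cfsg.Agent.S3331

/-!
The structure of `N(E)/E` when an element of order three fixes just one involution of `E`.
-/

set_option autoImplicit false
set_option linter.unusedSectionVars false

namespace Cfsg.Agent.SC6

open Cfsg Cfsg.Agent.H49 Cfsg.Agent.NO6 Subgroup

universe u

variable {G : Type u} [Group G] [Finite G] {x z : G} {E R N : Subgroup G}

/-- `N/E` is a nilpotent normal subgroup of `N(E)/E` of order prime to three. -/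
structure Nil (E R N : Subgroup G) : Prop where
  le1 : E ≤ R
  le3 : N ≤ 𝒩(E)
  syl : IsSylowOf 2 R N
  normR : 𝒩(E) ≤ 𝒩(R)
  normN : 𝒩(E) ≤ 𝒩(N)
  n3 : ¬ 3 ∣ Nat.card N
  comm : ∀ k ∈ N, Odd (orderOf k) → ∀ r ∈ R, k * r * k⁻¹ * r⁻¹ ∈ E
  solv : Group.IsSolvable N

theorem Nil.two (n : Nil E R N) : IsPGroup 2 R := (isPi_singleton_iff pr2).1 n.syl.pi

theorem Hyp.self_cent (h : Hyp G) (af : AF z x E) (hE : ∀ a ∈ E, a * a = 1) :
    𝒞(zpowers (coset E ⟨x, af.norm⟩)) = zpowers (coset E ⟨x, af.norm⟩) := by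
  refine le_antisymm (fun m hm => ?_) (le_centralizer _)
  obtain ⟨n, rfl⟩ := coset_surjective E m
  have he : (n : G) * x * (n : G)⁻¹ * x⁻¹ ∈ E := coset_comm_iff.1 (hm _ (mem_zpowers _)).symm
  generalize hd : (n : G) * x * (n : G)⁻¹ * x⁻¹ = e at he
  have e1 : (n : G) * x * (n : G)⁻¹ = e * x := by rw [← hd]; group
  have e2 : e * (x * e * x⁻¹) * (x⁻¹ * e * x) = 1 := by
    have : (e * x) ^ 3 = 1 := by rw [← e1, conj_pow, cube_of af.ox]; group
    calc _ = e * x * (e * (x * x) * (x * x) * e * x) := by rw [af.xx]; group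
      _ = e * x * (e * x * x ^ 3 * e * x) := by rw [pow_three]; group
      _ = (e * x) ^ 3 := by rw [cube_of af.ox, pow_three]; group
      _ = 1 := this
  have hb := af.conj_mem he
  have e3 : x * e * x⁻¹ * x * (x * e * x⁻¹)⁻¹ = e * x := by
    rw [inv_eq_of_sq (hE _ hb)]
    calc _ = e⁻¹ * (e * (x * e * x⁻¹) * ((x * x) * e * (x * x)⁻¹)) * x := by group
      _ = _ := by rw [af.xx, inv_inv, e2, mul_one, inv_eq_of_sq (hE _ he)]
  generalize x * e * x⁻¹ = b at hb e3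
  have c1 : b⁻¹ * n * x = x * (b⁻¹ * n) := by
    calc _ = b⁻¹ * (n * x * (n : G)⁻¹) * n := by group
      _ = b⁻¹ * (b * x * b⁻¹) * n := by rw [e1, e3]
      _ = _ := by group
  have hn : b⁻¹ * n ∈ 𝒩(E) := mul_mem (inv_mem (le_normalizer hb)) n.2
  have c2 : b⁻¹ * n * z = z * (b⁻¹ * n) := by
    generalize b⁻¹ * (n : G) = k at c1 hn
    rcases af.fix _ (conj_mem_of_norm le_rfl hn af.mem) (by
      calc _ = k * z * k⁻¹ * (x * k) * k⁻¹ := by group
        _ = k * (z * x) * k⁻¹ := by rw [← c1]; group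
        _ = _ := by rw [af.zx, ← mul_assoc, c1]; group) with e | e
    · exact absurd (by simpa using e) (ne_of af.oz)
    · exact mul_inv_eq_iff_eq_mul.1 e
  obtain ⟨i, j, e4⟩ := h.six' af.oz af.ox af.zx c2 c1
  have : coset E n = coset E ⟨x, af.norm⟩ ^ j := by
    rw [← map_pow, eq_comm, coset_eq_iff]
    have e5 : (n : G) = b * z ^ i * x ^ j := by rw [mul_assoc, ← e4]; group
    show (x ^ j)⁻¹ * n ∈ E
    rw [e5, ← mul_assoc]
    exact conj_mem_of_norm' le_rfl (pow_mem af.norm j) (mul_mem hb (pow_mem af.mem i))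
  exact this ▸ pow_mem (mem_zpowers _) j

theorem ker_comp {K M : Type*} [Group K] [Group M] (f : K →* Quo E) (B : Subgroup (Quo E))
    [B.Normal] (e : Quo E ⧸ B ≃* M) (g : K) :
    (e.toMonoidHom.comp ((QuotientGroup.mk' B).comp f)) g = 1 ↔ f g ∈ B := by
  simp [QuotientGroup.eq_one_iff]

theorem Hyp.out (h : Hyp G) (af : AF z x E) (hE : ∀ a ∈ E, a * a = 1) :
    (∃ R N, Nil E R N ∧ (N.relIndex 𝒩(E) = 3 ∨ ∃ φ : ↥𝒩(E) →* Equiv.Perm (Fin 3),
      Function.Surjective φ ∧ ∀ g, φ g = 1 ↔ (g : G) ∈ N)) ∨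
    (∃ φ : ↥𝒩(E) →* alternatingGroup (Fin 5), Function.Surjective φ ∧ IsPGroup 2 φ.ker) ∨
    (∃ φ : ↥𝒩(E) →* Matrix.ProjectiveSpecialLinearGroup (Fin 2) (ZMod 7),
      Function.Surjective φ ∧ ∀ g, φ g = 1 ↔ (g : G) ∈ E) := by
  have hE2 := isPi_of_isPGroup pr2 af.two
  have ox : orderOf (coset E ⟨x, af.norm⟩) = 3 := orderOf_eq_prime (by
    rw [← map_pow, coset_eq_one_iff, SubmonoidClass.coe_pow, cube_of af.ox]
    exact one_mem _) fun e => not_mem_two af.two af.ox (coset_eq_one_iff.1 e)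
  rcases S3331.result _ (by rw [Nat.card_zpowers, ox]) (h.self_cent af hE) with
    ⟨B, hB, nil, cop, hq⟩ | ⟨B, hB, -, ex, ⟨e⟩⟩ | ⟨⟨e⟩⟩
  · have nB : 𝒩(E) ≤ 𝒩(quoPre E B) := norm_quoPre le_rfl fun g _ => (normalizer_eq_top B).symm ▸ mem_top g
    refine Or.inl ⟨quoPre E (piCoreOf {2} B), quoPre E B, ⟨le_quoPre _, quoPre_le_norm _,
      hall_quoPre hE2 (le_quoPre B) (quoPre_le_norm B)
        (by rw [quo_quoPre]; exact nilpotent_hall_piCoreOf nil _),
      norm_quoPre le_rfl fun g _ => norm_le_norm_piCoreOf _ B ((normalizer_eq_top B).symm ▸ mem_top g),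
      nB, ?_, ?_, ?_⟩, hq.imp (fun hq => ?_) fun ⟨e⟩ => ?_⟩
    · rw [card_quoPre]
      intro k
      rcases (Nat.Prime.dvd_mul pr3).1 k with k | k
      · exact absurd (hE2 3 pr3 k) (by decide)
      · exact (Nat.Prime.coprime_iff_not_dvd pr3).1 cop.symm k
    · intro k hk ho r hr
      obtain ⟨k1, k2⟩ := mem_quoPre.1 hk
      obtain ⟨r1, r2⟩ := mem_quoPre.1 hr
      obtain ⟨n, hn⟩ := pow_two_of ((isPi_singleton_iff pr2).1 (piCoreOf_pi _ B)) r2
      have := H19.commute_of_coprime_pow (G := B) (m := orderOf k) (n := 2 ^ n)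
        (Nat.Coprime.pow_right n (Nat.coprime_two_right.2 ho)) ⟨_, k2⟩ ⟨_, piCoreOf_le _ _ r2⟩
        (Subtype.ext (by
          show coset E ⟨k, k1⟩ ^ orderOf k = 1
          rw [← map_pow, coset_eq_one_iff, SubmonoidClass.coe_pow, pow_orderOf_eq_one]
          exact one_mem _)) (Subtype.ext hn)
      exact coset_comm_iff.1 (congrArg Subtype.val this)
    · exact solvable_of_quo (solvable_of_nilpotent hE2.nilpotent) (quoPre_le_norm B)
        (by rw [quo_quoPre]; exact solvable_of_nilpotent nil)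
    · rw [← quoPre_top, relIndex_quoPre, relIndex_top_right]; exact hq
    · exact ⟨e.toMonoidHom.comp ((QuotientGroup.mk' B).comp (coset E)),
        e.surjective.comp ((QuotientGroup.mk'_surjective B).comp (coset_surjective E)),
        fun g => (ker_comp _ B e g).trans coe_mem_quoPre.symm⟩
  · refine Or.inr (Or.inl ⟨e.toMonoidHom.comp ((QuotientGroup.mk' B).comp (coset E)),
      e.surjective.comp ((QuotientGroup.mk'_surjective B).comp (coset_surjective E)), ?_⟩)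
    rintro ⟨g, hg⟩
    refine ⟨2, Subtype.ext (Subtype.ext ?_)⟩
    have h1 := ex _ ((ker_comp _ B e g).1 hg)
    rw [← map_pow, coset_eq_one_iff] at h1
    have := hE _ h1
    show (g : G) ^ 2 ^ 2 = 1
    rw [← this, SubmonoidClass.coe_pow, ← pow_add]; rfl
  · exact Or.inr (Or.inr ⟨e.toMonoidHom.comp (coset E), e.surjective.comp (coset_surjective E),
      fun g => by simp [coset_eq_one_iff]⟩)

end Cfsg.Agent.SC6
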